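import Cfsg.Agent.H290.ElReg
import Cfsg.Agent.H946.ExcNum_m3
import Cfsg.Agent.Lib.ListFast
import Cfsg.Agent.Prune
set_option linter.all false

-- part: H290/ElTab
section
set_option linter.all false
open scoped Cfsg.Agent.FastGrp

/-!
# TEAM ELUSIVE, exceptional rows: the numerical tests (helper290)

All names in cross characteristic allowed by the degree bound `lb` are enumerated; for a group `T` of exceptional shape
`Y` over the field of `p ^ f` elements the tests use the primitive prime divisors of `p ^ (e f) - 1`.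
-/

set_option autoImplicit false

namespace Cfsg.Agent.H290.ElTab

open Cfsg.Agent.H902 Cfsg.Agent.H290.ElReg Finset

/-- the primes below 620 -/
def prs : List ℕ :=
  [2, 3, 5, 7, 11, 13, 17, 19, 23, 29, 31, 37, 41, 43, 47, 53, 59, 61, 67, 71, 73, 79, 83, 89, 97, 101, 103, 107,
   109, 113, 127, 131, 137, 139, 149, 151, 157, 163, 167, 173, 179, 181, 191, 193, 197, 199, 211, 223, 227, 229, 233,
   239, 241, 251, 257, 263, 269, 271, 277, 281, 283, 293, 307, 311, 313, 317, 331, 337, 347, 349, 353, 359, 367, 373,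
   379, 383, 389, 397, 401, 409, 419, 421, 431, 433, 439, 443, 449, 457, 461, 463, 467, 479, 487, 491, 499, 503, 509,
   521, 523, 541, 547, 557, 563, 569, 571, 577, 587, 593, 599, 601, 607, 613, 617, 619]

/-- the part of the order prime to the characteristic, with lists -/
def numL : Art.Sh → ℕ → ℕ
  | .L n, q => ((List.range (n - 1)).map fun i => q ^ (i + 2) - 1).prod
  | .C m, q => ((List.range m).map fun i => q ^ (2 * (i + 1)) - 1).prod
  | .U n, q => ((List.range (n - 1)).map fun i => if i % 2 = 0 then q ^ (i + 2) - 1 else q ^ (i + 2) + 1).prod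
  | .D m, q => (q ^ m - 1) * ((List.range (m - 1)).map fun i => q ^ (2 * (i + 1)) - 1).prod
  | .DD m, q => (q ^ m + 1) * ((List.range (m - 1)).map fun i => q ^ (2 * (i + 1)) - 1).prod
  | X, q => Art.num X q

theorem numL_eq (X : Art.Sh) (q : ℕ) : numL X q = Art.num X q := by
  cases X with
  | U n =>
    show ((List.range (n - 1)).map fun i => if i % 2 = 0 then q ^ (i + 2) - 1 else q ^ (i + 2) + 1).prod =
      ∏ i ∈ range (n - 1), (if Even i then q ^ (i + 2) - 1 else q ^ (i + 2) + 1)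
    rw [Finset.prod_congr rfl (g := fun i => if i % 2 = 0 then q ^ (i + 2) - 1 else q ^ (i + 2) + 1)
      (fun i _ => by simp only [Nat.even_iff])]
    rfl
  | L n => rfl
  | C m => rfl
  | D m => rfl
  | DD m => rfl
  | _ => rfl

/-- a number with the primes of the simple group -/
def NS (X : Art.Sh) (l a : ℕ) : ℕ := l * numL X (l ^ a)

/-- a number with the primes of its automorphism group -/
def NA (X : Art.Sh) (l a : ℕ) : ℕ := 24 * Art.dd X (l ^ a) * a * NS X l a

/-- the small prime divisors -/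
def pd (N : ℕ) : List ℕ := prs.filter fun r => N % r == 0

/-- all prime divisors are small -/
def smooth (N : ℕ) : Bool := prs.prod ^ 100 % N == 0

/-- a necessary condition for `k` to be the order of `p` modulo `r` -/
def tord (p r k : ℕ) : Bool :=
  (r - 1) % k == 0 && (p ^ k % r == 1 && [2, 3, 5, 7].all fun d => k % d != 0 || p ^ (k / d) % r != 1)

/-- a primitive prime divisor in the list -/
def pz (ps : List ℕ) (p k : ℕ) : Bool := (p == 2 && k == 6) || ps.any fun r => tord p r k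

/-- the exponents `≥ 3` of the primes of the shape -/
def EA : Art.Sh → List ℕ
  | .E8 => [30, 24, 20, 18, 15, 14, 12, 10, 9, 8, 7, 6, 5, 4, 3]
  | .E7 => [18, 14, 12, 10, 9, 8, 7, 6, 5, 4, 3]
  | .E6 => [12, 9, 8, 6, 5, 4, 3]
  | .TE6 => [18, 12, 10, 8, 6, 4, 3]
  | .F4 => [12, 8, 6, 4, 3]
  | .G2 => [6, 3]
  | .TD4 => [12, 6, 3]
  | .TF4 => [12, 6, 4]
  | _ => []

/-- the exponents of the regular classes -/
def ER : Art.Sh → List ℕ
  | .E8 => [30, 24, 20, 15]
  | .E7 => [18, 14, 9, 7]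
  | .E6 => [12, 9, 8]
  | .TE6 => [18, 12, 8]
  | .F4 => [12, 8]
  | .G2 => [6, 3]
  | .TD4 => [12]
  | .TF4 => [12]
  | _ => []

/-- the largest exponent -/
def top : Art.Sh → ℕ
  | .E8 => 30
  | .E7 => 18
  | .E6 => 12
  | .TE6 => 18
  | .F4 => 12
  | .G2 => 6
  | .TD4 => 12
  | .TF4 => 12
  | _ => 1

/-- the test for `T` of shape `Y` over the field of `p ^ f` elements; `ps` and `pa` are the lists of the primes of the
simple group and of its automorphism group, `M` is a number with the primes of the automorphism group, and `D / d` is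
the order of the simple group -/
def tst (Y : Art.Sh) (ps pa : List ℕ) (M d D p f : ℕ) : Bool :=
  (ER Y).all (fun e => pz ps p (e * f)) && ((EA Y).all (fun e => pz pa p (e * f)) && (decide (Art.Ok Y p f) &&
    (d * ((p ^ f) ^ Art.NN Y * numL Y (p ^ f)) % D == 0 && M ^ (Nat.log2 (numL Y (p ^ f)) + 1) % numL Y (p ^ f) == 0)))

/-- the prime powers below 620 -/
def qs : List (ℕ × ℕ) := (prs.flatMap fun l => (List.range 9).map fun a => (l, a + 1)).filter fun x => Nat.blt (x.1 ^ x.2) 620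

/-- the shapes -/
def shs : List Art.Sh :=
  HAppend.hAppend (α := List Art.Sh) (β := List Art.Sh) ((List.range 12).flatMap fun m => [.L m, .C m, .U m, .D m, .DD m]) [.G2, .F4, .E6, .E7, .E8, .TE6, .TD4, .Sz, .Ree, .TF4]

/-- the region -/
def reg (n : ℕ) : List (Art.Sh × ℕ × ℕ) :=
  shs.flatMap fun X => (qs.filter fun x => Nat.ble (lb X (x.1 ^ x.2)) n && decide (Art.Ok X x.1 x.2)).map fun x => (X, x)

/-- the survivors, `T` of shape `Y`, degree `n` -/
def surv (n : ℕ) (Y : Art.Sh) : List ((Art.Sh × ℕ × ℕ) × (ℕ × ℕ)) :=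
  (reg n).flatMap fun x => (pd (NA x.1 x.2.1 x.2.2)).flatMap fun p =>
    if p = x.2.1 then [] else ((List.range (618 / top Y)).filter fun f =>
      tst Y (pd (NS x.1 x.2.1 x.2.2)) (pd (NA x.1 x.2.1 x.2.2)) (NA x.1 x.2.1 x.2.2) (Art.dd x.1 (x.2.1 ^ x.2.2))
        ((x.2.1 ^ x.2.2) ^ Art.NN x.1 * numL x.1 (x.2.1 ^ x.2.2)) p (f + 1)).map fun f => (x, (p, f + 1))

/-- the survivors among the sporadic groups -/
def survS (Y : Art.Sh) : List (ℕ × (ℕ × ℕ)) :=
  Cfsg.Agent.OrdDiv.spor.flatMap fun x => (pd x.2).flatMap fun p => ((List.range (618 / top Y)).filter fun f =>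
      tst Y (pd x.2) (pd x.2) x.2 1 x.2 p (f + 1)).map fun f => (x.2, (p, f + 1))

private noncomputable def frc {β : Type} (x : ℕ) (f : ℕ → β) : β := Nat.rec (f 0) (fun n _ => f (Nat.succ n)) x

private theorem frc_eq {β : Type} (x : ℕ) (f : ℕ → β) : frc x f = f x := by cases x <;> rfl

private noncomputable def fil (q : ℕ → Bool) (l : List ℕ) {β : Type} : (List ℕ → β) → β :=
  List.rec (fun k => k []) (fun a _ ih k => Bool.rec (ih k) (ih fun l' => k (a :: l')) (q a)) l

private theorem fil_eq (q : ℕ → Bool) (l : List ℕ) {β : Type} (k : List ℕ → β) : fil q l k = k (l.filter q) := by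
  induction l generalizing k with
  | nil => rfl
  | cons a l ih =>
    show (Bool.rec (fil q l k) (fil q l fun l' => k (a :: l')) (q a) : β) = _
    rw [ih, ih, List.filter_cons]
    cases q a <;> rfl

private noncomputable def anyK (q : ℕ → Bool) (l : List ℕ) : Bool :=
  List.rec false (fun a _ ih => Bool.rec ih true (q a)) l

private theorem anyK_eq (q : ℕ → Bool) (l : List ℕ) : anyK q l = l.any q := by
  induction l with
  | nil => rfl
  | cons a l ih =>
    show Bool.rec (anyK q l) true (q a) = (q a || l.any q)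
    rw [ih]
    cases q a <;> rfl

private theorem beq_eq' (a b : ℕ) : Nat.beq a b = (a == b) := by
  rw [Bool.eq_iff_iff, Nat.beq_eq, beq_iff_eq]

private noncomputable def pdK (N : ℕ) {β : Type} (k : List ℕ → β) : β :=
  frc N fun N => fil (fun r => Nat.beq (Nat.mod N r) 0) prs k

private theorem pdK_eq (N : ℕ) {β : Type} (k : List ℕ → β) : pdK N k = k (pd N) := by
  rw [pdK, frc_eq, fil_eq]
  simp only [beq_eq']
  rfl

private noncomputable def pre (Y : Art.Sh) (ps : List ℕ) (f : ℕ) : Bool :=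
  (ER Y).all fun e => frc (Nat.mul e (Nat.succ f)) fun k =>
    Nat.beq k 6 || anyK (fun r => Nat.beq (Nat.mod (Nat.sub r 1) k) 0) ps

private theorem pre_of {Y : Art.Sh} {ps pa : List ℕ} {M d D p f : ℕ} (h : tst Y ps pa M d D p (f + 1) = true) :
    pre Y ps f = true := by
  rw [tst, Bool.and_eq_true, List.all_eq_true] at h
  rw [pre, List.all_eq_true]
  intro e he
  have h1 := h.1 e he
  rw [pz, Bool.or_eq_true, Bool.and_eq_true, List.any_eq_true] at h1
  rw [frc_eq, anyK_eq, Bool.or_eq_true, List.any_eq_true, beq_eq']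
  refine h1.imp (fun h2 => h2.2) fun ⟨r, hr, h2⟩ => ⟨r, hr, ?_⟩
  rw [tord, Bool.and_eq_true] at h2
  rw [beq_eq']
  exact h2.1

private theorem filter_pre (Y : Art.Sh) (ps pa : List ℕ) (M d D p : ℕ) (l : List ℕ) :
    ((l.filter (pre Y ps)).filter fun f => tst Y ps pa M d D p (f + 1)) =
      l.filter fun f => tst Y ps pa M d D p (f + 1) := by
  rw [List.filter_filter]
  refine List.filter_congr fun f _ => ?_
  cases h : tst Y ps pa M d D p (f + 1) with
  | false => rfl
  | true => exact pre_of h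

private noncomputable def orNil {β : Type} (F : List ℕ) (r : List β) : List β := List.rec [] (fun _ _ _ => r) F

private theorem orNil_eq {β : Type} (F : List ℕ) (g : List ℕ → List β) (h : g [] = []) : orNil F (g F) = g F := by
  cases F with
  | nil => exact h.symm
  | cons a F => rfl

private def regK (n : ℕ) : List (Art.Sh × ℕ × ℕ) := (reg 248).filter fun x => Nat.ble (lb x.1 (x.2.1 ^ x.2.2)) n

private theorem regK_eq {n : ℕ} (h : n ≤ 248) : reg n = regK n := by
  rw [regK, reg, reg, List.filter_flatMap]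
  refine congrArg (fun g => shs.flatMap g) (funext fun X => ?_)
  rw [List.filter_map, List.filter_filter]
  refine congrArg _ (List.filter_congr fun x _ => ?_)
  show _ = (Nat.ble (lb X (x.1 ^ x.2)) n && (Nat.ble (lb X (x.1 ^ x.2)) 248 && _))
  cases h1 : Nat.ble (lb X (x.1 ^ x.2)) n with
  | false => rfl
  | true => rw [Nat.ble_eq_true_of_le ((Nat.le_of_ble_eq_true h1).trans h)]; rfl

private noncomputable def survK (n : ℕ) (Y : Art.Sh) : List ((Art.Sh × ℕ × ℕ) × (ℕ × ℕ)) :=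
  (regK n).flatMap fun x => pdK (NS x.1 x.2.1 x.2.2) fun ps => fil (pre Y ps) (List.range (618 / top Y)) fun F =>
    orNil F (pdK (NA x.1 x.2.1 x.2.2) fun pa => pa.flatMap fun p =>
      if p = x.2.1 then [] else (F.filter fun f =>
        tst Y ps pa (NA x.1 x.2.1 x.2.2) (Art.dd x.1 (x.2.1 ^ x.2.2))
          ((x.2.1 ^ x.2.2) ^ Art.NN x.1 * numL x.1 (x.2.1 ^ x.2.2)) p (f + 1)).map fun f => (x, (p, f + 1)))

private theorem survK_eq {n : ℕ} (h : n ≤ 248) (Y : Art.Sh) : surv n Y = survK n Y := by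
  rw [survK, ← regK_eq h]
  refine congrArg (fun g => (reg n).flatMap g) (funext fun x => ?_)
  rw [pdK_eq, fil_eq, pdK_eq, orNil_eq _ (fun F => (pd (NA x.1 x.2.1 x.2.2)).flatMap fun p =>
      if p = x.2.1 then [] else (F.filter fun f =>
        tst Y (pd (NS x.1 x.2.1 x.2.2)) (pd (NA x.1 x.2.1 x.2.2)) (NA x.1 x.2.1 x.2.2) (Art.dd x.1 (x.2.1 ^ x.2.2))
          ((x.2.1 ^ x.2.2) ^ Art.NN x.1 * numL x.1 (x.2.1 ^ x.2.2)) p (f + 1)).map fun f => (x, (p, f + 1)))
    (List.flatMap_eq_nil_iff.2 fun p _ => ite_self _)]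
  simp only [filter_pre]

private noncomputable def survSK (Y : Art.Sh) : List (ℕ × (ℕ × ℕ)) :=
  Cfsg.Agent.OrdDiv.spor.flatMap fun x => pdK x.2 fun ps => fil (pre Y ps) (List.range (618 / top Y)) fun F =>
    orNil F (ps.flatMap fun p => (F.filter fun f => tst Y ps ps x.2 1 x.2 p (f + 1)).map fun f => (x.2, (p, f + 1)))

private theorem survSK_eq (Y : Art.Sh) : survS Y = survSK Y := by
  refine congrArg (fun g => Cfsg.Agent.OrdDiv.spor.flatMap g) (funext fun x => ?_)
  rw [pdK_eq, fil_eq, orNil_eq _ (fun F => (pd x.2).flatMap fun p =>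
      (F.filter fun f => tst Y (pd x.2) (pd x.2) x.2 1 x.2 p (f + 1)).map fun f => (x.2, (p, f + 1)))
    (List.flatMap_eq_nil_iff.2 fun p _ => rfl)]
  simp only [filter_pre]

set_option synthInstance.maxSize 4000 in
private theorem all_ok :
    (((reg 248).all fun x => smooth (NA x.1 x.2.1 x.2.2)) = true) ∧
    (survK 248 .E8 = []) ∧
    (survK 133 .E7 = []) ∧
    (survK 78 .E6 = []) ∧
    (survK 78 .TE6 = []) ∧
    (survK 52 .F4 = []) ∧
    (survK 52 .TF4 = []) ∧
    (survK 28 .TD4 = [((.L 2, 3, 3), 2, 1), ((.L 2, 13, 1), 2, 1)]) ∧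
    (survK 14 .G2 = [((.L 2, 13, 1), 3, 1)]) ∧
    ((Cfsg.Agent.OrdDiv.spor.all fun x => smooth x.2) = true) ∧
    (survSK .E8 = []) ∧
    (survSK .E7 = []) ∧
    (survSK .E6 = []) ∧
    (survSK .TE6 = []) ∧
    (survSK .F4 = []) ∧
    (survSK .TF4 = []) ∧
    (survSK .TD4 = []) ∧
    (survSK .G2 = []) := by
  decide +kernel

theorem smooth_reg : ((reg 248).all fun x => smooth (NA x.1 x.2.1 x.2.2)) = true :=
  all_ok.1

theorem surv_E8 : surv 248 .E8 = [] :=
  (survK_eq (by decide) _).trans all_ok.2.1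

theorem surv_E7 : surv 133 .E7 = [] :=
  (survK_eq (by decide) _).trans all_ok.2.2.1

theorem surv_E6 : surv 78 .E6 = [] :=
  (survK_eq (by decide) _).trans all_ok.2.2.2.1

theorem surv_TE6 : surv 78 .TE6 = [] :=
  (survK_eq (by decide) _).trans all_ok.2.2.2.2.1

theorem surv_F4 : surv 52 .F4 = [] :=
  (survK_eq (by decide) _).trans all_ok.2.2.2.2.2.1

theorem surv_TF4 : surv 52 .TF4 = [] :=
  (survK_eq (by decide) _).trans all_ok.2.2.2.2.2.2.1

theorem surv_TD4 : surv 28 .TD4 = [((.L 2, 3, 3), 2, 1), ((.L 2, 13, 1), 2, 1)] :=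
  (survK_eq (by decide) _).trans all_ok.2.2.2.2.2.2.2.1

theorem surv_G2 : surv 14 .G2 = [((.L 2, 13, 1), 3, 1)] :=
  (survK_eq (by decide) _).trans all_ok.2.2.2.2.2.2.2.2.1

theorem smooth_spor : (Cfsg.Agent.OrdDiv.spor.all fun x => smooth x.2) = true :=
  all_ok.2.2.2.2.2.2.2.2.2.1

theorem survS_E8 : survS .E8 = [] :=
  (survSK_eq _).trans all_ok.2.2.2.2.2.2.2.2.2.2.1

theorem survS_E7 : survS .E7 = [] :=
  (survSK_eq _).trans all_ok.2.2.2.2.2.2.2.2.2.2.2.1

theorem survS_E6 : survS .E6 = [] :=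
  (survSK_eq _).trans all_ok.2.2.2.2.2.2.2.2.2.2.2.2.1

theorem survS_TE6 : survS .TE6 = [] :=
  (survSK_eq _).trans all_ok.2.2.2.2.2.2.2.2.2.2.2.2.2.1

theorem survS_F4 : survS .F4 = [] :=
  (survSK_eq _).trans all_ok.2.2.2.2.2.2.2.2.2.2.2.2.2.2.1

theorem survS_TF4 : survS .TF4 = [] :=
  (survSK_eq _).trans all_ok.2.2.2.2.2.2.2.2.2.2.2.2.2.2.2.1

theorem survS_TD4 : survS .TD4 = [] :=
  (survSK_eq _).trans all_ok.2.2.2.2.2.2.2.2.2.2.2.2.2.2.2.2.1

theorem survS_G2 : survS .G2 = [] :=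
  (survSK_eq _).trans all_ok.2.2.2.2.2.2.2.2.2.2.2.2.2.2.2.2.2

end Cfsg.Agent.H290.ElTab
end

-- part: H290/ElCross
section
set_option linter.all false
open scoped Cfsg.Agent.FastGrp

/-!
# TEAM ELUSIVE, exceptional rows: cross characteristic, the numerical theorem (helper290)
-/

set_option autoImplicit false

namespace Cfsg.Agent.H290.ElCross

open Cfsg.Agent.H902 Cfsg.Agent.H290.ElReg Cfsg.Agent.H290.ElTab
open Cfsg.Agent.H436 (Prim exists_prim)

theorem prs_chk : (prs.all fun r => Nat.ble 2 r && (List.range r).all fun m => Nat.ble m 1 || r % m != 0) = true := by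
  ((try (rewrite [Cfsg.Agent.LsF.nmod_pat, Cfsg.Agent.LsF.nbne_pat, Cfsg.Agent.LsF.and_eq, Cfsg.Agent.LsF.or_eq, Cfsg.Agent.LsF.all_eq, Cfsg.Agent.LsF.range_eq])); decide +kernel)

theorem prs_prime : ∀ r ∈ prs, r.Prime := by
  intro r hr
  have h := List.all_eq_true.1 prs_chk r hr
  simp only [Bool.and_eq_true, List.all_eq_true, Nat.ble_eq, Bool.or_eq_true, bne_iff_ne, ne_eq, List.mem_range] at h
  rw [Nat.prime_def_lt']
  refine ⟨h.1, fun m h2 hm hd => ?_⟩
  rcases h.2 m hm with h3 | h3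
  · omega
  · exact h3 (Nat.mod_eq_zero_of_dvd hd)

theorem prs_lt : ∀ r ∈ prs, r < 620 := by decide +kernel

theorem prs_chk' : ((List.range 620).all fun r => prs.contains r || (Nat.ble r 1 ||
    (List.range r).any fun m => Nat.ble 2 m && r % m == 0)) = true := by
  ((try (rewrite [Cfsg.Agent.LsF.nmod_pat, Cfsg.Agent.LsF.nbeq_pat, Cfsg.Agent.LsF.instNBEq_pat, Cfsg.Agent.LsF.and_eq, Cfsg.Agent.LsF.or_eq, Cfsg.Agent.LsF.all_eq, Cfsg.Agent.LsF.any_eq, Cfsg.Agent.LsF.contains_eq, Cfsg.Agent.LsF.range_eq])); decide +kernel)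

theorem mem_prs_of_lt {r : ℕ} (hr : r.Prime) (h : r < 620) : r ∈ prs := by
  have h1 := List.all_eq_true.1 prs_chk' r (List.mem_range.2 h)
  simp only [Bool.or_eq_true, List.contains_iff_mem, Nat.ble_eq, List.any_eq_true, Bool.and_eq_true, beq_iff_eq,
    List.mem_range] at h1
  rcases h1 with h1 | h1 | ⟨m, hm, h2, h3⟩
  · exact h1
  · exact absurd hr.two_le (by omega)
  · exfalso
    have := (Nat.prime_def_lt'.1 hr).2 m h2 hm
    exact this (Nat.dvd_of_mod_eq_zero h3)

theorem mem_prs {r : ℕ} (hr : r.Prime) (h : r ∣ prs.prod) : r ∈ prs := by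
  obtain ⟨s, hs, hrs⟩ := (hr.prime.dvd_prod_iff).1 h
  rwa [(Nat.prime_dvd_prime_iff_eq hr (prs_prime s hs)).1 hrs]

theorem mem_pd {N r : ℕ} (hs : smooth N = true) (hr : r.Prime) (h : r ∣ N) : r ∈ pd N := by
  have h1 : N ∣ prs.prod ^ 100 := Nat.dvd_of_mod_eq_zero (by simpa [smooth] using hs)
  refine List.mem_filter.2 ⟨mem_prs hr (hr.dvd_of_dvd_pow (h.trans h1)), ?_⟩
  simp only [beq_iff_eq]
  exact Nat.mod_eq_zero_of_dvd h

theorem tord_of {p k r : ℕ} (hp : 2 ≤ p) (hk : 1 ≤ k) (h : Prim p k r) : tord p r k = true := by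
  have hr := h.prime
  have := Fact.mk hr
  have hp1 : ∀ m, 1 ≤ p ^ m := fun m => Nat.one_le_pow _ _ (by omega)
  have h1 : k ∣ r - 1 := by
    rw [← h.dvd_iff]
    have h2 : ((p : ZMod r)) ≠ 0 := by
      rw [Ne, ZMod.natCast_eq_zero_iff]
      exact h.not_dvd
    have h3 := ZMod.pow_card_sub_one_eq_one h2
    have h4 : ((p ^ (r - 1) - 1 : ℕ) : ZMod r) = 0 := by
      rw [Nat.cast_sub (hp1 _), Nat.cast_pow, h3, Nat.cast_one, sub_self]
    exact (ZMod.natCast_eq_zero_iff _ _).1 h4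
  have h2 : ∀ m, p ^ m % r = 1 ↔ k ∣ m := by
    intro m
    rw [← h.dvd_iff, ← Nat.modEq_iff_dvd' (hp1 m)]
    constructor
    · intro h3
      have h4 : 1 % r = 1 := Nat.mod_eq_of_lt hr.one_lt
      exact h4.trans h3.symm
    · intro h3
      have h4 : 1 % r = 1 := Nat.mod_eq_of_lt hr.one_lt
      exact (show p ^ m % r = 1 % r from h3.symm).trans h4
  have h3 : ∀ d, 2 ≤ d → k % d ≠ 0 ∨ p ^ (k / d) % r ≠ 1 := by
    intro d hd
    by_contra hcon
    push Not at hcon
    have h4 := (h2 _).1 hcon.2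
    have h5 := Nat.div_mul_cancel (Nat.dvd_of_mod_eq_zero hcon.1)
    have h6 : 0 < k / d := by
      rcases Nat.eq_zero_or_pos (k / d) with h0 | h0
      · rw [h0, zero_mul] at h5
        omega
      · exact h0
    have h7 := Nat.le_of_dvd h6 h4
    have h8 : k / d * 2 ≤ k / d * d := Nat.mul_le_mul_left _ hd
    omega
  unfold tord
  simp only [Bool.and_eq_true, beq_iff_eq, List.all_cons, List.all_nil, Bool.or_eq_true, bne_iff_ne, and_true]
  exact ⟨Nat.mod_eq_zero_of_dvd h1, (h2 k).2 dvd_rfl, h3 2 (by norm_num), h3 3 (by norm_num), h3 5 (by norm_num),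
    h3 7 (by norm_num)⟩

theorem pz_of {ps : List ℕ} {p k : ℕ} (hp : 2 ≤ p) (hk : 3 ≤ k) (h : ∀ r, Prim p k r → r ∈ ps) :
    pz ps p k = true := by
  unfold pz
  by_cases h6 : p = 2 ∧ k = 6
  · simp [h6.1, h6.2]
  · obtain ⟨r, hr⟩ := exists_prim hp hk h6
    rw [Bool.or_eq_true]
    right
    exact List.any_eq_true.2 ⟨r, h r hr, tord_of hp (by omega) hr⟩

/-! ### The region -/

theorem le_of_sub_le {a : ℕ} (h : a - 1 ≤ 248) : a ≤ 249 := by omega

theorem pow_small {q k b : ℕ} (hq : 2 ≤ q) (h : q ^ k ≤ b) (hb : b < 2 ^ 9) : k < 9 := by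
  by_contra hcon
  have h1 : 2 ^ 9 ≤ q ^ k := (Nat.pow_le_pow_left hq 9).trans (Nat.pow_le_pow_right (by omega) (by omega))
  omega

theorem le_pow_of {q k b : ℕ} (hq : 2 ≤ q) (hk : 1 ≤ k) (h : q ^ k ≤ b) : q ≤ b :=
  (Nat.le_self_pow (by omega) q).trans h

theorem mul_small {q k : ℕ} (hq : 2 ≤ q) (h : (q - 1) * q ^ k ≤ 248) : q ^ k ≤ 248 := by
  have h1 : 1 * q ^ k ≤ (q - 1) * q ^ k := Nat.mul_le_mul_right _ (by omega)
  omega

theorem mem_shs : ∀ m < 12, Art.Sh.L m ∈ shs ∧ Art.Sh.C m ∈ shs ∧ Art.Sh.U m ∈ shs ∧ Art.Sh.D m ∈ shs ∧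
    Art.Sh.DD m ∈ shs := by
  decide +kernel

theorem mem_shs' : Art.Sh.G2 ∈ shs ∧ Art.Sh.F4 ∈ shs ∧ Art.Sh.E6 ∈ shs ∧ Art.Sh.E7 ∈ shs ∧ Art.Sh.E8 ∈ shs ∧
    Art.Sh.TE6 ∈ shs ∧ Art.Sh.TD4 ∈ shs ∧ Art.Sh.Sz ∈ shs ∧ Art.Sh.Ree ∈ shs ∧ Art.Sh.TF4 ∈ shs := by
  decide +kernel

set_option linter.unusedVariables false in
theorem bounds {X : Art.Sh} {l a : ℕ} (hq : 2 ≤ l ^ a) (hok : Art.Ok X l a) (h : lb X (l ^ a) ≤ 248) :
    l ^ a < 620 ∧ X ∈ shs := by
  obtain ⟨k1, k2, k3, k4, k5, k6, k7, k8, k9, k10⟩ := mem_shs'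
  generalize hQ : l ^ a = q at *
  have key : ∀ k, 1 ≤ k → (q - 1) * q ^ k ≤ 248 → q < 620 := fun k hk h1 => by
    have := le_pow_of hq hk (mul_small hq h1)
    omega
  cases X with
  | L m =>
    have h1 : 2 ≤ m := hok.1
    change (if m = 2 then (q - 1) / Nat.gcd 2 (q - 1) else q ^ (m - 1) - 1) ≤ 248 at h
    split_ifs at h with h2
    · have h3 : Nat.gcd 2 (q - 1) ≤ 2 := Nat.le_of_dvd (by norm_num) (Nat.gcd_dvd_left _ _)
      have h4 := Nat.div_mul_cancel (Nat.gcd_dvd_right 2 (q - 1))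
      refine ⟨?_, (mem_shs m (by omega)).1⟩
      have h5 := Nat.mul_le_mul h h3
      omega
    · have h3 := le_of_sub_le h
      have h4 := pow_small hq h3 (by norm_num)
      exact ⟨by have := le_pow_of hq (by omega) h3; omega, (mem_shs m (by omega)).1⟩
  | C m =>
    have h1 : 2 ≤ m := hok.1
    change (if q % 2 = 0 then q ^ m - 1 else if m ≤ 3 then (q ^ m - 1) / 2 else q ^ (m - 1) - 1) ≤ 248 at h
    split_ifs at h with h2 h3
    · have h3 := le_of_sub_le h
      have h4 := pow_small hq h3 (by norm_num)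
      exact ⟨by have := le_pow_of hq (by omega) h3; omega, (mem_shs m (by omega)).2.1⟩
    · have h4 : q ^ m ≤ 498 := by omega
      exact ⟨by have := le_pow_of hq (by omega) h4; omega, (mem_shs m (by omega)).2.1⟩
    · have h3 := le_of_sub_le h
      have h4 := pow_small hq h3 (by norm_num)
      exact ⟨by have := le_pow_of hq (by omega) h3; omega, (mem_shs m (by omega)).2.1⟩
  | U m =>
    have h1 : 3 ≤ m := hok.1
    have h3 : q ^ (m - 2) ≤ 248 := mul_small hq h
    have h4 := pow_small hq h3 (by norm_num)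
    exact ⟨by have := le_pow_of hq (by omega) h3; omega, (mem_shs m (by omega)).2.2.1⟩
  | D m =>
    have h1 : 4 ≤ m := hok
    have h3 : q ^ (m - 1) ≤ 249 := le_of_sub_le h
    have h4 := pow_small hq h3 (by norm_num)
    exact ⟨by have := le_pow_of hq (by omega) h3; omega, (mem_shs m (by omega)).2.2.2.1⟩
  | DD m =>
    have h1 : 4 ≤ m := hok
    have h3 : q ^ (max 3 (m - 2)) ≤ 249 := le_of_sub_le h
    have h4 := pow_small hq h3 (by norm_num)
    exact ⟨by have := le_pow_of hq (by omega) h3; omega, (mem_shs m (by omega)).2.2.2.2⟩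
  | G2 =>
    change (if q = 4 then 0 else (q - 1) * q) ≤ 248 at h
    split_ifs at h with h2
    · exact ⟨by omega, k1⟩
    · exact ⟨key 1 le_rfl (by rwa [pow_one]), k1⟩
  | F4 =>
    change (if q = 2 then 249 else (q - 1) * q ^ 4) ≤ 248 at h
    split_ifs at h with h2
    · omega
    · exact ⟨key 4 (by norm_num) h, k2⟩
  | E6 => exact ⟨key 10 (by norm_num) h, k3⟩
  | E7 => exact ⟨key 16 (by norm_num) h, k4⟩
  | E8 => exact ⟨key 28 (by norm_num) h, k5⟩
  | TE6 =>
    change (if q = 2 then 249 else (q - 1) * q ^ 6) ≤ 248 at h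
    split_ifs at h with h2
    · omega
    · exact ⟨key 6 (by norm_num) h, k6⟩
  | TD4 => exact ⟨key 4 (by norm_num) h, k7⟩
  | Sz =>
    change q - 1 ≤ 248 at h
    exact ⟨by omega, k8⟩
  | Ree =>
    change q - 1 ≤ 248 at h
    exact ⟨by omega, k9⟩
  | TF4 => exact ⟨key 2 (by norm_num) h, k10⟩

theorem mem_qs {l a : ℕ} (hl : l.Prime) (ha : 1 ≤ a) (h : l ^ a < 620) : (l, a) ∈ qs := by
  have h1 : l < 620 := lt_of_le_of_lt (Nat.le_self_pow (by omega) l) h
  have h2 : a < 10 := by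
    by_contra hcon
    have h3 : 2 ^ 10 ≤ l ^ a := (Nat.pow_le_pow_left hl.two_le 10).trans (Nat.pow_le_pow_right hl.pos (by omega))
    omega
  refine List.mem_filter.2 ⟨List.mem_flatMap.2 ⟨l, mem_prs_of_lt hl h1, List.mem_map.2
    ⟨a - 1, List.mem_range.2 (by omega), ?_⟩⟩, ?_⟩
  · rw [Nat.sub_add_cancel ha]
  · simpa [Nat.blt_eq] using h

theorem mem_reg {n : ℕ} {X : Art.Sh} {l a : ℕ} (hn : n ≤ 248) (hl : l.Prime) (ha : 1 ≤ a) (hok : Art.Ok X l a)
    (h : lb X (l ^ a) ≤ n) : (X, (l, a)) ∈ reg n := by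
  have h2 : 2 ≤ l ^ a := hl.two_le.trans (Nat.le_self_pow (by omega) l)
  obtain ⟨h3, h4⟩ := bounds h2 hok (h.trans hn)
  refine List.mem_flatMap.2 ⟨X, h4, List.mem_map.2 ⟨(l, a), List.mem_filter.2 ⟨mem_qs hl ha h3, ?_⟩, rfl⟩⟩
  rw [Bool.and_eq_true]
  exact ⟨by rw [Nat.ble_eq]; exact h, decide_eq_true hok⟩

/-! ### The exceptional shapes -/

/-- the shapes of the exceptional groups -/
def exl : List Art.Sh := [.E8, .E7, .E6, .TE6, .F4, .TF4, .TD4, .G2]

theorem exl_tab : ∀ Y ∈ exl, top Y ∈ ER Y ∧ 6 ≤ top Y ∧ (∀ e ∈ ER Y, 3 ≤ e) ∧ (∀ e ∈ EA Y, 3 ≤ e) ∧ Art.NN Y ≠ 0 := by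
  decide +kernel

theorem Prim.powBase {p e f r : ℕ} (hf : 1 ≤ f) (h : Prim p (e * f) r) : Prim (p ^ f) e r where
  prime := h.prime
  dvd_iff m := by
    rw [← pow_mul, h.dvd_iff, mul_comm e f]
    exact Nat.mul_dvd_mul_iff_left (by omega)
  not_dvd hd := h.not_dvd (h.prime.dvd_of_dvd_pow hd)

theorem Prim.dvd_td {q r : ℕ} (h : Prim q 12 r) : r ∣ q ^ 8 + q ^ 4 + 1 := by
  have h1 := h.dvd (dvd_refl 12)
  have h2 : ¬ r ∣ q ^ 4 - 1 := h.not_dvd_sub (by norm_num)
  rcases Nat.eq_zero_or_pos q with h0 | h0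
  · exact absurd (by rw [h0]; exact dvd_zero _) h.not_dvd
  · have h3 : 1 ≤ q ^ 4 := Nat.one_le_pow _ _ h0
    have h4 : q ^ 12 - 1 = (q ^ 4 - 1) * (q ^ 8 + q ^ 4 + 1) := by
      obtain ⟨k, hk⟩ := Nat.exists_eq_add_of_le' h3
      have e1 : q ^ 12 = (q ^ 4) ^ 3 := by ring
      have e2 : q ^ 8 = (q ^ 4) ^ 2 := by ring
      rw [e1, e2, hk, Nat.add_sub_cancel]
      have : (k + 1) ^ 3 = k * ((k + 1) ^ 2 + (k + 1) + 1) + 1 := by ring
      omega
    rw [h4] at h1
    exact (h.prime.dvd_mul.1 h1).resolve_left h2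

set_option maxRecDepth 4000 in
theorem dvd_num {Y : Art.Sh} (hY : Y ∈ exl) {e : ℕ} (he : e ∈ EA Y) {q r : ℕ} (h : Prim q e r) :
    r ∣ Art.num Y q := by
  simp only [exl, List.mem_cons, List.not_mem_nil, or_false] at hY
  rcases hY with rfl | rfl | rfl | rfl | rfl | rfl | rfl | rfl
  · simp only [EA, List.mem_cons, List.not_mem_nil, or_false] at he
    simp only [Art.num, h.prime.dvd_mul, h.dvd_iff]
    rcases he with rfl | rfl | rfl | rfl | rfl | rfl | rfl | rfl | rfl | rfl | rfl | rfl | rfl | rfl | rfl <;> norm_num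
  · simp only [EA, List.mem_cons, List.not_mem_nil, or_false] at he
    simp only [Art.num, h.prime.dvd_mul, h.dvd_iff]
    rcases he with rfl | rfl | rfl | rfl | rfl | rfl | rfl | rfl | rfl | rfl | rfl <;> norm_num
  · simp only [EA, List.mem_cons, List.not_mem_nil, or_false] at he
    simp only [Art.num, h.prime.dvd_mul, h.dvd_iff]
    rcases he with rfl | rfl | rfl | rfl | rfl | rfl | rfl <;> norm_num
  · simp only [EA, List.mem_cons, List.not_mem_nil, or_false] at he
    simp only [Art.num, h.prime.dvd_mul, h.dvd_iff]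
    rcases he with rfl | rfl | rfl | rfl | rfl | rfl | rfl
    · exact Or.inl (Or.inr (h.dvd_add (by norm_num) (by norm_num)))
    · norm_num
    · exact Or.inl (Or.inl (Or.inl (Or.inl (Or.inr (h.dvd_add (by norm_num) (by norm_num))))))
    · norm_num
    · norm_num
    · norm_num
    · norm_num
  · simp only [EA, List.mem_cons, List.not_mem_nil, or_false] at he
    simp only [Art.num, h.prime.dvd_mul, h.dvd_iff]
    rcases he with rfl | rfl | rfl | rfl | rfl <;> norm_num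
  · simp only [EA, List.mem_cons, List.not_mem_nil, or_false] at he
    simp only [Art.num, h.prime.dvd_mul, h.dvd_iff]
    rcases he with rfl | rfl | rfl
    · exact Or.inr (h.dvd_add (by norm_num) (by norm_num))
    · exact Or.inl (Or.inl (Or.inr (h.dvd_add (by norm_num) (by norm_num))))
    · norm_num
  · simp only [EA, List.mem_cons, List.not_mem_nil, or_false] at he
    simp only [Art.num, h.prime.dvd_mul, h.dvd_iff]
    rcases he with rfl | rfl | rfl
    · exact Or.inr (Prim.dvd_td h)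
    · norm_num
    · norm_num
  · simp only [EA, List.mem_cons, List.not_mem_nil, or_false] at he
    simp only [Art.num, h.prime.dvd_mul, h.dvd_iff]
    rcases he with rfl | rfl <;> norm_num

theorem num_ne_zero {Y : Art.Sh} (hY : Y ∈ exl) {q : ℕ} (hq : 2 ≤ q) : Art.num Y q ≠ 0 := by
  have h1 : ∀ k, 1 ≤ k → q ^ k - 1 ≠ 0 := by
    intro k hk
    have := Nat.le_self_pow (show k ≠ 0 by omega) q
    omega
  simp only [exl, List.mem_cons, List.not_mem_nil, or_false] at hY
  rcases hY with rfl | rfl | rfl | rfl | rfl | rfl | rfl | rfl <;>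
    simp only [Art.num, ne_eq, mul_eq_zero, not_or, h1 _ (by norm_num : 1 ≤ 2), h1 _ (by norm_num : 1 ≤ 4),
      h1 _ (by norm_num : 1 ≤ 5), h1 _ (by norm_num : 1 ≤ 6), h1 _ (by norm_num : 1 ≤ 8), h1 _ (by norm_num : 1 ≤ 9),
      h1 _ (by norm_num : 1 ≤ 10), h1 _ (by norm_num : 1 ≤ 12), h1 _ (by norm_num : 1 ≤ 14),
      h1 _ (by norm_num : 1 ≤ 18), h1 _ (by norm_num : 1 ≤ 20), h1 _ (by norm_num : 1 ≤ 24),
      h1 _ (by norm_num : 1 ≤ 30), not_false_eq_true, and_true, true_and] <;> first | trivial | omega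

theorem dvd_pow_of_primes {a M : ℕ} (ha : a ≠ 0) (h : ∀ r, r.Prime → r ∣ a → r ∣ M) : a ∣ M ^ (Nat.log2 a + 1) := by
  rcases eq_or_ne M 0 with rfl | hM
  · rw [zero_pow (by omega)]
    exact dvd_zero a
  rw [← Nat.factorization_le_iff_dvd ha (pow_ne_zero _ hM)]
  intro r
  by_cases hr : r.Prime ∧ r ∣ a
  · rw [Nat.factorization_pow, Finsupp.smul_apply, smul_eq_mul]
    have h1 : 1 ≤ M.factorization r := (hr.1.dvd_iff_one_le_factorization hM).1 (h r hr.1 hr.2)
    have h2 : a.factorization r ≤ Nat.log2 a := by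
      have h3 : r ^ a.factorization r ≤ a := Nat.le_of_dvd (Nat.pos_of_ne_zero ha) (Nat.ordProj_dvd a r)
      have h4 : 2 ^ a.factorization r ≤ a := (Nat.pow_le_pow_left hr.1.two_le _).trans h3
      rw [Nat.log2_eq_log_two]
      exact Nat.le_log_of_pow_le (by norm_num) h4
    nlinarith
  · have h1 : a.factorization r = 0 := by
      rw [Nat.factorization_eq_zero_iff]
      by_cases h2 : r.Prime
      · exact Or.inr (Or.inl fun h3 => hr ⟨h2, h3⟩)
      · exact Or.inl h2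
    rw [h1]
    exact Nat.zero_le _

/-- the order of the group of shape `Y` over the field of `p ^ f` elements, up to the divisor `dd` -/
def OT (Y : Art.Sh) (p f : ℕ) : ℕ := (p ^ f) ^ Art.NN Y * Art.num Y (p ^ f)

theorem dvd_OT {Y : Art.Sh} (hY : Y ∈ exl) {e : ℕ} (he : e ∈ EA Y) {p f r : ℕ} (hf : 1 ≤ f) (h : Prim p (e * f) r) :
    r ∣ OT Y p f := (dvd_num hY he (Prim.powBase hf h)).mul_left _

theorem p_dvd_OT {Y : Art.Sh} (hY : Y ∈ exl) {p f : ℕ} (hf : 1 ≤ f) : p ∣ OT Y p f :=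
  ((dvd_pow_self p (by omega)).trans (dvd_pow_self (p ^ f) (exl_tab Y hY).2.2.2.2)).mul_right _

/-- the test is passed -/
theorem tst_of {Y : Art.Sh} (hY : Y ∈ exl) {ps pa : List ℕ} {M d D N p f : ℕ} (hp : p.Prime) (hf : 1 ≤ f)
    (hok : Art.Ok Y p f) (hps : ∀ e ∈ ER Y, ∀ r, Prim p (e * f) r → r ∈ ps)
    (hpa : ∀ r, r.Prime → r ∣ OT Y p f → r ∈ pa) (hM : ∀ r, r.Prime → r ∣ OT Y p f → r ∣ M) (hD : D = d * N)
    (hN : N ∣ OT Y p f) : tst Y ps pa M d D p f = true := by
  obtain ⟨h1, h2, h3, h4, h5⟩ := exl_tab Y hY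
  have hq : 2 ≤ p ^ f := hp.two_le.trans (Nat.le_self_pow (by omega) p)
  have hmul : ∀ e, 3 ≤ e → 3 ≤ e * f := fun e he => he.trans (Nat.le_mul_of_pos_right _ (by omega))
  unfold tst
  simp only [Bool.and_eq_true, List.all_eq_true, decide_eq_true_eq, beq_iff_eq]
  refine ⟨fun e he => ?_, fun e he => ?_, hok, ?_, ?_⟩
  · exact pz_of hp.two_le (hmul e (h3 e he)) (hps e he)
  · exact pz_of hp.two_le (hmul e (h4 e he)) fun r hr => hpa r hr.prime (dvd_OT hY he hf hr)
  · rw [numL_eq, hD]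
    exact Nat.mod_eq_zero_of_dvd (Nat.mul_dvd_mul_left d hN)
  · rw [numL_eq]
    refine Nat.mod_eq_zero_of_dvd (dvd_pow_of_primes (num_ne_zero hY hq) fun r hr hd => hM r hr (hd.mul_left _))

/-- the bound for `f` -/
theorem f_lt {Y : Art.Sh} (hY : Y ∈ exl) {p f N : ℕ} (hp : p.Prime) (hf : 1 ≤ f)
    (hs : smooth N = true) (hS : ∀ e ∈ ER Y, ∀ r, Prim p (e * f) r → r ∣ N) : f - 1 < 618 / top Y := by
  obtain ⟨h1, h2, h3, h4, h5⟩ := exl_tab Y hY
  have h6 : top Y ≤ 30 := by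
    have : ∀ Y ∈ exl, top Y ≤ 30 := by decide
    exact this Y hY
  rw [Nat.lt_div_iff_mul_lt (by omega)]
  by_cases h : p = 2 ∧ top Y * f = 6
  · have h7 : f ≤ 1 := by
      by_contra hcon
      have : 6 * 2 ≤ top Y * f := Nat.mul_le_mul h2 (by omega)
      omega
    have h8 : f - 1 = 0 := by omega
    rw [h8]
    omega
  · have h7 : 3 ≤ top Y * f := by
      have := Nat.mul_le_mul h2 hf
      omega
    obtain ⟨r, hr⟩ := exists_prim hp.two_le h7 h
    have h8 := mem_pd hs hr.prime (hS _ h1 r hr)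
    have h9 := prs_lt r (List.mem_filter.1 h8).1
    have h10 := tord_of hp.two_le (by omega) hr
    unfold tord at h10
    simp only [Bool.and_eq_true, beq_iff_eq] at h10
    have h11 := Nat.le_of_dvd (by have := hr.prime.two_le; omega) (Nat.dvd_of_mod_eq_zero h10.1)
    have h12 : f * top Y ≤ 618 := by rw [mul_comm]; omega
    have h13 : (f - 1) * top Y + top Y = f * top Y := by
      obtain ⟨k, rfl⟩ := Nat.exists_eq_add_of_le' hf
      rw [Nat.add_sub_cancel]
      ring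
    omega

/-- **Cross characteristic.** -/
theorem mem_surv {n : ℕ} (hn : n ≤ 248) {Y : Art.Sh} (hY : Y ∈ exl) {X : Art.Sh} {l a N : ℕ}
    (hR : Art.Real X l a N) (hlb : lb X (l ^ a) ≤ n) {p f : ℕ} (hp : p.Prime) (hf : 1 ≤ f) (hpl : p ≠ l)
    (hok : Art.Ok Y p f) (hA : ∀ r, r.Prime → r ∣ OT Y p f → r ∣ NA X l a)
    (hS : ∀ e ∈ ER Y, ∀ r, Prim p (e * f) r → r ∣ N) (hd : N ∣ OT Y p f) :
    ((X, (l, a)), (p, f)) ∈ surv n Y := by
  obtain ⟨hl, ha, hokX, heq⟩ := hR
  have hreg := mem_reg hn hl ha hokX hlb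
  have hs : smooth (NA X l a) = true :=
    List.all_eq_true.1 smooth_reg (X, (l, a)) (mem_reg le_rfl hl ha hokX (hlb.trans hn))
  have hNS : ∀ r, r.Prime → r ∣ N → r ∣ NS X l a := by
    intro r hr h
    unfold NS
    rw [numL_eq]
    have h1 : r ∣ (l ^ a) ^ Art.NN X * Art.num X (l ^ a) := by
      rw [← heq]
      exact h.mul_left _
    rcases hr.dvd_mul.1 h1 with h2 | h2
    · exact (hr.dvd_of_dvd_pow (hr.dvd_of_dvd_pow h2)).mul_right _
    · exact h2.mul_left _
  have hsS : smooth (NS X l a) = true := by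
    have h1 : NS X l a ∣ NA X l a := Dvd.intro_left _ rfl
    have h2 : NA X l a ∣ prs.prod ^ 100 := Nat.dvd_of_mod_eq_zero (by simpa [smooth] using hs)
    simpa [smooth] using Nat.mod_eq_zero_of_dvd (h1.trans h2)
  have hpa : ∀ r, r.Prime → r ∣ OT Y p f → r ∈ pd (NA X l a) := fun r hr h => mem_pd hs hr (hA r hr h)
  refine List.mem_flatMap.2 ⟨_, hreg, List.mem_flatMap.2 ⟨p, hpa p hp (p_dvd_OT hY hf), ?_⟩⟩
  rw [if_neg hpl]
  have hS' : ∀ e ∈ ER Y, ∀ r, Prim p (e * f) r → r ∣ NS X l a := fun e he r hr => hNS r hr.prime (hS e he r hr)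
  refine List.mem_map.2 ⟨f - 1, List.mem_filter.2 ⟨List.mem_range.2 (f_lt hY hp hf hsS hS'), ?_⟩, ?_⟩
  · rw [Nat.sub_add_cancel hf]
    exact tst_of hY hp hf hok (fun e he r hr => mem_pd hsS hr.prime (hS' e he r hr)) hpa hA
      (by rw [numL_eq]; exact heq.symm) hd
  · rw [Nat.sub_add_cancel hf]

/-- **Sporadic groups.** -/
theorem mem_survS {Y : Art.Sh} (hY : Y ∈ exl) {x : Cfsg.Agent.OrdDiv.Grp × ℕ} (hx : x ∈ Cfsg.Agent.OrdDiv.spor)
    {p f : ℕ} (hp : p.Prime) (hf : 1 ≤ f) (hok : Art.Ok Y p f) (hA : ∀ r, r.Prime → r ∣ OT Y p f → r ∣ x.2)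
    (hd : x.2 ∣ OT Y p f) : (x.2, (p, f)) ∈ survS Y := by
  have hs : smooth x.2 = true := List.all_eq_true.1 smooth_spor x hx
  have hER : ∀ e ∈ ER Y, e ∈ EA Y := by
    have : ∀ Y ∈ exl, ∀ e ∈ ER Y, e ∈ EA Y := by decide
    exact this Y hY
  have hpa : ∀ r, r.Prime → r ∣ OT Y p f → r ∈ pd x.2 := fun r hr h => mem_pd hs hr (hA r hr h)
  have hS : ∀ e ∈ ER Y, ∀ r, Prim p (e * f) r → r ∣ x.2 := fun e he r hr =>
    hA r hr.prime (dvd_OT hY (hER e he) hf hr)
  refine List.mem_flatMap.2 ⟨x, hx, List.mem_flatMap.2 ⟨p, hpa p hp (p_dvd_OT hY hf), ?_⟩⟩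
  refine List.mem_map.2 ⟨f - 1, List.mem_filter.2 ⟨List.mem_range.2 (f_lt hY hp hf hs hS), ?_⟩, ?_⟩
  · rw [Nat.sub_add_cancel hf]
    exact tst_of hY hp hf hok (fun e he r hr => mem_pd hs hr.prime (hS e he r hr)) hpa hA (one_mul _).symm hd
  · rw [Nat.sub_add_cancel hf]

end Cfsg.Agent.H290.ElCross

private theorem dce_ceb894e3246a : _root_.True := by
  try have : _root_.True := by simp only [_root_.Cfsg.Agent.H902.Art.num.eq_10]
  try have : _root_.True := by simp only [_root_.Cfsg.Agent.H290.ElCross.exl.eq_1]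
  try have : _root_.True := by simp only [_root_.Cfsg.Agent.H902.Art.num.eq_13]
  try have : _root_.True := by simp only [_root_.Cfsg.Agent.H902.Art.num.eq_11]
  try have : _root_.True := by simp only [_root_.Cfsg.Agent.H290.ElTab.EA.eq_1]
  try have : _root_.True := by simp only [_root_.Cfsg.Agent.H902.Art.num.eq_14]
  try have : _root_.True := by simp only [_root_.Cfsg.Agent.H290.ElTab.EA.eq_5]
  try have : _root_.True := by simp only [_root_.Cfsg.Agent.H902.Art.num.eq_6]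
  try have : _root_.True := by simp only [_root_.Cfsg.Agent.H902.Art.num.eq_1]
  try have : _root_.True := by simp only [_root_.Cfsg.Agent.H902.Art.num.eq_15]
  try have : _root_.True := by simp only [_root_.Cfsg.Agent.H902.Art.num.eq_2]
  try have : _root_.True := by simp only [_root_.Cfsg.Agent.H290.ElTab.EA.eq_3]
  try have : _root_.True := by simp only [_root_.Cfsg.Agent.H290.ElTab.smooth.eq_1]
  try have : _root_.True := by simp only [_root_.Cfsg.Agent.H290.ElTab.EA.eq_7]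
  try have : _root_.True := by simp only [_root_.Cfsg.Agent.H902.Art.num.eq_4]
  try have : _root_.True := by simp only [_root_.Cfsg.Agent.H902.Art.num.eq_8]
  try have : _root_.True := by simp only [_root_.Cfsg.Agent.H290.ElTab.EA.eq_9]
  try have : _root_.True := by simp only [_root_.Cfsg.Agent.H902.Art.num.eq_7]
  try have : _root_.True := by simp only [_root_.Cfsg.Agent.H902.Art.num.eq_9]
  try have : _root_.True := by simp only [_root_.Cfsg.Agent.H290.ElTab.EA.eq_4]
  try have : _root_.True := by simp only [_root_.Cfsg.Agent.H290.ElTab.EA.eq_8]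
  try have : _root_.True := by simp only [_root_.Cfsg.Agent.H290.ElTab.EA.eq_6]
  try have : _root_.True := by simp only [_root_.Cfsg.Agent.H902.Art.num.eq_5]
  try have : _root_.True := by simp only [_root_.Cfsg.Agent.H902.Art.num.eq_12]
  try have : _root_.True := by simp only [_root_.Cfsg.Agent.H902.Art.num.eq_3]
  try have : _root_.True := by simp only [_root_.Cfsg.Agent.H290.ElTab.EA.eq_2]
  try have : _root_.True := by simp only [_root_.Cfsg.Agent.H290.ElTab.EA._sparseCasesOn_1.else_eq]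
  exact _root_.True.intro
end
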