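import Cfsg.Agent.H290.ElFin_m3
import Cfsg.Agent.H325.Same.ExcPairE_m3
import Cfsg.Agent.H290.ElE7t
import Cfsg.Agent.H264.FKS.Final_m3
import Cfsg.Agent.H325.LocStruct
import Cfsg.Agent.Prune
set_option linter.all false
prune_inst 0x7f00000000000000000000000000000000000000000000000000000000000000000000000000000000000000000000000000000000000000000000000000000000000000000000000000000000000000003fffffffffffffffffffffffffffbeffbdffffffff
open scoped Cfsg.Agent.FastGrp

/-!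
# TEAM ELUSIVE, exceptional rows: the general row (helper290)

`main` : `T` of exceptional shape `Y` over the field of `p ^ f` elements, faithful of degree `n` in characteristic `p`,
with enough classes of elements of prime order with small abelian centralisers; `R ≤ T` with `π(R) = π(T)`: then `R` is
almost simple with socle of Lie type in characteristic `p`.
-/

set_option autoImplicit false

namespace Cfsg.Agent.H290.ElMain

open Cfsg Cfsg.Agent.OrdDiv Cfsg.Agent.H902 Cfsg.Agent.H902.Names Cfsg.Agent.H290.ElReg Cfsg.Agent.H290.ElTab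
  Cfsg.Agent.H290.ElCross Cfsg.Agent.H290.ElEng Cfsg.Agent.H290.ElRich
open Cfsg.Agent.H436 (Prim IsNamed Cond)
open Cfsg.Agent.H915.GN (HasChar)
open Cfsg.Agent.H264.FKS (Full exists_lie)
open Cfsg.Agent.H325.Loc (PIso)

/-- the characteristics of the names -/
theorem char_of_cond {g : Grp} (hc : Cond g) :
    (∃ m, 5 ≤ m ∧ g = .alt m) ∨ g ∈ spor.map (fun x => x.1) ∨ ∃ l, l.Prime ∧ HasChar l g := by
  have key : ∀ {q : ℕ}, IsPrimePow q → ∃ l, l.Prime ∧ ∃ f, q = l ^ f := fun h => by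
    obtain ⟨l, f, hl, -, h⟩ := (isPrimePow_nat_iff _).1 h
    exact ⟨l, hl, f, h.symm⟩
  cases g with
  | alt n => exact Or.inl ⟨n, hc, rfl⟩
  | psl n q => exact Or.inr (Or.inr (key hc.2.2))
  | psp n q => exact Or.inr (Or.inr (key hc.2.2))
  | psu n q => exact Or.inr (Or.inr (key hc.2.2))
  | oodd n q => exact Or.inr (Or.inr (key hc.2.2))
  | oplus n q => exact Or.inr (Or.inr (key hc.2))
  | ominus n q => exact Or.inr (Or.inr (key hc.2))
  | g2 q => exact Or.inr (Or.inr (key hc.2))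
  | f4 q => exact Or.inr (Or.inr (key hc))
  | e6 q => exact Or.inr (Or.inr (key hc))
  | e7 q => exact Or.inr (Or.inr (key hc))
  | e8 q => exact Or.inr (Or.inr (key hc))
  | te6 q => exact Or.inr (Or.inr (key hc))
  | td4 q => exact Or.inr (Or.inr (key hc))
  | sz q =>
    obtain ⟨m, -, h⟩ := hc
    exact Or.inr (Or.inr ⟨2, Nat.prime_two, _, h⟩)
  | ree q =>
    obtain ⟨m, -, h⟩ := hc
    exact Or.inr (Or.inr ⟨3, Nat.prime_three, _, h⟩)
  | tf4 q =>
    obtain ⟨m, -, h⟩ := hc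
    exact Or.inr (Or.inr ⟨2, Nat.prime_two, _, h⟩)
  | _ => exact Or.inr (Or.inl (by decide))

/-- the type of the socle -/
theorem same_char {Y : Art.Sh} (hY : Y ∈ exl) {n : ℕ} (hn : n ≤ 248) (hs : surv n Y = []) (hsS : survS Y = [])
    {p f : ℕ} (hp : p.Prime) (hf : 1 ≤ f)
    (hok : Art.Ok Y p f) {F : Type} [Field F] [CharP F p] {R : Type} [Group R] [Finite R] (hF : Fth n F R)
    {S : Subgroup R} [S.Normal] (hSs : IsSimpleGroup S) (hna : ¬ IsMulCommutative S)
    (hSc : Subgroup.centralizer (S : Set R) = ⊥) {g : Grp} (hg : IsNamed g S) (halt : ∀ m, g ≠ .alt m)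
    (hall : ∀ r, r.Prime → r ∣ OT Y p f → r ∣ 6 ∨ r ∣ Nat.card R)
    (hreg : ∀ e ∈ ER Y, ∀ r, Prim p (e * f) r → r ∣ Nat.card S) (hd : Nat.card S ∣ OT Y p f) : HasChar p g := by
  rcases char_of_cond hg.cond with ⟨m, -, rfl⟩ | h | ⟨l, hl, h⟩
  · exact absurd rfl (halt m)
  · exfalso
    obtain ⟨x, hx, rfl⟩ := List.mem_map.1 h
    have hc : Nat.card S = x.2 := hg.ord.trans (spor_ord x hx)
    have h1 : (x.2, (p, f)) ∈ survS Y := mem_survS hY hx hp hf hok (fun r hr hrd => by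
      rcases hall r hr hrd with h6 | h6
      · exact h6.trans (ElFin.six_dvd x hx)
      rw [← hc]
      refine ElFin.prime_dvd_of_oddInn hSc (ElFin.oddInn_of_spor hx hg.real) ?_ hr h6
      have hns : ¬ Group.IsSolvable S := fun hs => hna ⟨⟨IsSimpleGroup.comm_iff_isSolvable.2 hs⟩⟩
      by_contra h2
      exact hns (Cfsg.Agent.S0205.result (Nat.not_even_iff_odd.1 fun h3 => h2 (even_iff_two_dvd.1 h3)))) (hc ▸ hd)
    rw [hsS] at h1
    exact absurd h1 (by simp)
  · by_cases hlp : l = p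
    · exact hlp ▸ h
    · exfalso
      obtain ⟨X, a, h1, h2, -⟩ := exists_lie hl hg h
      have h3 : ((X, (l, a)), (p, f)) ∈ surv n Y := by
        refine mem_surv hn hY h2 ?_ hp hf (fun h => hlp h.symm) hok (fun r hr hrd => ?_) hreg hd
        · refine lb_le (fun hcc => hna ⟨⟨hcc⟩⟩) hn (hF.sub S.subtype S.subtype_injective) h1 hg.real h2
            (fun h0 => hlp ?_)
          exact ((Nat.prime_dvd_prime_iff_eq hp hl).1 ((CharP.cast_eq_zero_iff F p l).1 h0)).symm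
        · rcases hall r hr hrd with h6 | h6
          · exact (((h6.trans (by norm_num : 6 ∣ 24)).mul_right _).mul_right _).mul_right _
          · exact ElFin.prime_dvd_NA hna h1 hg.real h2 hr (h6.trans (ElEng.card_dvd_aut hSc))
      rw [hs] at h3
      exact absurd h3 (by simp)

theorem exists_of_full {T : Type*} [Group T] [Finite T] {R : Subgroup T} (h : Full T R) {r : ℕ} (hr : r.Prime)
    (hd : r ∣ Nat.card T) : ∃ x : R, orderOf x = r := by
  have := Fact.mk hr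
  exact exists_prime_orderOf_dvd_card' r (h r hr hd)

/-- **The general row**, the solvable radical being trivial. -/
theorem main_rad (has : ASThm.{0}) (hrf : RichFix.{0})
    (hnm : ∀ (S : Type) [Group S] [Finite S] [IsSimpleGroup S], ¬ IsMulCommutative S → ∃ g, IsNamed g S)
    {Y : Art.Sh} (hY : Y ∈ exl) {n : ℕ} (hn : n ≤ 248) (hs : surv n Y = []) (hsS : survS Y = []) {p f : ℕ}
    (hp : p.Prime) (hf : 1 ≤ f) (hok : Art.Ok Y p f) {F : Type} [Field F] [CharP F p] {T : Type} [Group T] [Finite T]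
    (hF : Fth n F T) (hc : Nat.card T ∣ OT Y p f)
    (hall : ∀ r, r.Prime → r ∣ OT Y p f → r ∣ 6 ∨ r ∣ Nat.card T) (h2 : 2 ∣ Nat.card T)
    (hodd : ∃ r m, Tc T r m ∧ ¬ 2 ∣ m) (hER : ∀ e ∈ ER Y, ∀ r, Prim p (e * f) r → Ab T r)
    (hex : ∃ r s, Ab T r ∧ Ab T s ∧ 5 ≤ r ∧ r + 4 ≤ s) {R : Subgroup T} (hfull : Full T R)
    (hrad : ∀ S : Subgroup R, S.Normal → Group.IsSolvable S → S = ⊥) :
    ∃ S : Subgroup R, S.Normal ∧ IsSimpleGroup S ∧ ¬ IsMulCommutative S ∧
      Subgroup.centralizer (S : Set R) = ⊥ ∧ ∃ g, IsNamed g S ∧ HasChar p g := by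
  classical
  have hpF := Fact.mk hp
  have hFR : Fth n F R := hF.sub R.subtype R.subtype_injective
  obtain ⟨r₀, m₀, h3, h4⟩ := hodd
  have hr₀2 : r₀ ≠ 2 := by
    rintro rfl
    exact h4 h3.dvd_m
  obtain ⟨S, hSn, hSs, hSna, hSc⟩ := exists_socle has hrad (hfull 2 Nat.prime_two h2) h3.prime hr₀2
    (hfull r₀ h3.prime h3.dvd) (by
      intro g hg
      have h5 : orderOf (g ^ 2) = r₀ := by
        rw [orderOf_pow' g (by norm_num), hg, Nat.gcd_mul_right_left, Nat.mul_div_cancel_left _ (by norm_num)]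
      have h6 := h3.free Nat.prime_two h4 R.subtype R.subtype_injective (x := g ^ 2) (a := g ^ r₀) h5 (by
        rw [← pow_mul, mul_comm, ← hg, pow_orderOf_eq_one]) (by rw [← pow_add, ← pow_add, add_comm])
      have h7 := orderOf_dvd_of_pow_eq_one h6
      rw [hg] at h7
      have := Nat.le_of_dvd h3.prime.pos h7
      have := h3.prime.pos
      omega)
  have hdS : ∀ r, Ab T r → r ∣ Nat.card S := fun r h => dvd_socle_rich hrf hSn hSs hSna h.prime
    (hfull r h.prime h.dvd) (fun x hx => h.nilp R.subtype R.subtype_injective x hx)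
  obtain ⟨g, hg⟩ := hnm S hSna
  refine ⟨S, hSn, hSs, hSna, hSc, g, hg, ?_⟩
  refine same_char hY hn hs hsS hp hf hok hFR hSs hSna hSc hg ?_ (fun r hr hd => ?_)
    (fun e he r hr => hdS r (hER e he r hr)) ?_
  · rintro m rfl
    obtain ⟨r, s, h5, h6, h7, h8⟩ := hex
    obtain ⟨e⟩ := hg.real
    have h9 : 5 ≤ m := hg.cond
    exact not_alt h5.prime h6.prime h7 h8 (by omega) e (hdS r h5) (hdS s h6) (fun x hx =>
      h5.nilp (R.subtype.comp S.subtype) (R.subtype_injective.comp S.subtype_injective) x hx)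
  · exact (hall r hr hd).imp_right (hfull r hr)
  · exact ((Subgroup.card_subgroup_dvd_card S).trans (Subgroup.card_subgroup_dvd_card R)).trans hc

/-- **The solvable radical.** -/
theorem rad {n p : ℕ} (hp : p.Prime) {F : Type} [Field F] [CharP F p] {T : Type} [Group T] [Finite T] (hF : Fth n F T)
    {w : ℕ} (hw : w.Prime) (hwT : w ∣ Nat.card T) (hiso : PIso p w T)
    (hfree : ∀ t : ℕ, t.Prime → t ≠ p → ∃ r r' m m', Tc T r m ∧ Tc T r' m' ∧ r ≠ r' ∧ n < r * r' ∧ ¬ t ∣ m ∧ ¬ t ∣ m')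
    {R : Subgroup T} (hfull : Full T R) : ∀ S : Subgroup R, S.Normal → Group.IsSolvable S → S = ⊥ := by
  classical
  have hpF := Fact.mk hp
  have hFR : Fth n F R := hF.sub R.subtype R.subtype_injective
  obtain ⟨τ, hτ⟩ := hFR
  refine fun S hS hSs => eq_bot_of_rad (p := p) hτ (fun A hA hAp => ?_) (fun t ht htp _ => ?_) S hS hSs
  · by_contra hA1
    refine hiso.of_le (Q := A.map R.subtype) (H := R) (hAp.map _) ?_ ?_ (hfull w hw hwT)
    · rw [Ne, Subgroup.map_eq_bot_iff_of_injective _ R.subtype_injective]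
      exact hA1
    · rintro x hx _ ⟨y, hy, rfl⟩
      exact ⟨(⟨x, hx⟩ * y * ⟨x, hx⟩⁻¹ :), hA.conj_mem y hy _, rfl⟩
  · obtain ⟨r, r', m, m', h3, h4, h5, h6, h7, h8⟩ := hfree t ht htp
    obtain ⟨x, hx⟩ := exists_of_full hfull h3.prime h3.dvd
    obtain ⟨y, hy⟩ := exists_of_full hfull h4.prime h4.dvd
    refine ⟨r, r', x, y, h3.prime, h4.prime, h5, hx, hy, by rw [Fintype.card_fin]; exact h6, ?_, ?_⟩
    · exact fun a ha hxa => h3.free ht h7 R.subtype R.subtype_injective hx ha hxa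
    · exact fun a ha hxa => h4.free ht h8 R.subtype R.subtype_injective hy ha hxa

/-- **The general row.** -/
theorem main (has : ASThm.{0}) (hrf : RichFix.{0})
    (hnm : ∀ (S : Type) [Group S] [Finite S] [IsSimpleGroup S], ¬ IsMulCommutative S → ∃ g, IsNamed g S)
    {Y : Art.Sh} (hY : Y ∈ exl) {n : ℕ} (hn : n ≤ 248) (hs : surv n Y = []) (hsS : survS Y = []) {p f : ℕ}
    (hp : p.Prime) (hf : 1 ≤ f) (hok : Art.Ok Y p f) {F : Type} [Field F] [CharP F p] {T : Type} [Group T] [Finite T]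
    (hF : Fth n F T) (hc : Nat.card T ∣ OT Y p f)
    (hall : ∀ r, r.Prime → r ∣ OT Y p f → r ∣ 6 ∨ r ∣ Nat.card T) (h2 : 2 ∣ Nat.card T)
    {w : ℕ} (hw : w.Prime) (hwT : w ∣ Nat.card T) (hiso : PIso p w T)
    (hfree : ∀ t : ℕ, t.Prime → t ≠ p → ∃ r r' m m', Tc T r m ∧ Tc T r' m' ∧ r ≠ r' ∧ n < r * r' ∧ ¬ t ∣ m ∧ ¬ t ∣ m')
    (hodd : ∃ r m, Tc T r m ∧ ¬ 2 ∣ m) (hER : ∀ e ∈ ER Y, ∀ r, Prim p (e * f) r → Ab T r)
    (hex : ∃ r s, Ab T r ∧ Ab T s ∧ 5 ≤ r ∧ r + 4 ≤ s) {R : Subgroup T} (hfull : Full T R) :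
    ∃ S : Subgroup R, S.Normal ∧ IsSimpleGroup S ∧ ¬ IsMulCommutative S ∧
      Subgroup.centralizer (S : Set R) = ⊥ ∧ ∃ g, IsNamed g S ∧ HasChar p g :=
  main_rad has hrf hnm hY hn hs hsS hp hf hok hF hc hall h2 hodd hER hex hfull (rad hp hF hw hwT hiso hfree hfull)

end Cfsg.Agent.H290.ElMain
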