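import Cfsg.Agent.H290.ElCross
import Cfsg.Agent.H175.BdSp_m3
import Cfsg.Agent.H364.OutLie
import Cfsg.Agent.H566.Main
import Cfsg.Agent.Prune
set_option linter.all false

section
prune_inst 0x7f00000000000000000000000000000000000000000000000000000000000000000000000000000000000000000000000000000000000000000000000000000000000000000000000000000000000000003fffffffffffffffffffffffffffbeffbdffffffff

-- part: H290/ElFin
section
set_option linter.all false
open scoped Cfsg.Agent.FastGrp

/-!
# TEAM ELUSIVE, exceptional rows: the almost simple subgroups (helper290)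

`cross` : `R` almost simple with socle `S`, faithful of degree `n` over a field of characteristic `p`, every prime
divisor of the order of the group of exceptional shape `Y` over the field of `p ^ f` elements divides `|R|`, the
regular ones divide `|S|`: `S` is alternating or of Lie type in characteristic `p`, or one of the survivors of
`ElTab.surv`.
-/

set_option autoImplicit false

namespace Cfsg.Agent.H290.ElFin

open Cfsg Cfsg.Agent.OrdDiv Cfsg.Agent.H902 Cfsg.Agent.H902.Names Cfsg.Agent.H290.ElReg Cfsg.Agent.H290.ElTab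
  Cfsg.Agent.H290.ElCross
open Cfsg.Agent.H436 (Prim)
open Cfsg.Agent.BpSpor.Inn (OddInn)

theorem prime_dvd_NA {S : Type} [Group S] [Finite S] [IsSimpleGroup S] (hna : ¬ IsMulCommutative S) {g : Grp}
    {X : Art.Sh} {l a : ℕ} (hg : IsLie g X l a) (h : OrdDiv.Real g S) (hR : Art.Real X l a (Nat.card S)) {r : ℕ}
    (hr : r.Prime) (hd : r ∣ Nat.card (MulAut S)) : r ∣ NA X l a := by
  have hna' : ¬ ∀ x y : S, x * y = y * x := fun hc => hna ⟨⟨hc⟩⟩
  obtain ⟨c, hc1, hc2, -⟩ := H364.OutLie.card_out hna' hg h hR
  rw [← H934.OutB.card_out_mul S hna, hc1, hr.dvd_mul, hr.dvd_mul] at hd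
  unfold NA
  rcases hd with (h1 | h1) | h1
  · exact ((h1.trans hc2).mul_right _).mul_right _
  · exact (h1.mul_left _).mul_right _
  · refine Dvd.dvd.mul_left ?_ _
    unfold NS
    rw [numL_eq]
    have h2 : r ∣ (l ^ a) ^ Art.NN X * Art.num X (l ^ a) := by
      rw [← hR.eq]
      exact h1.mul_left _
    rcases hr.dvd_mul.1 h2 with h3 | h3
    · exact (hr.dvd_of_dvd_pow (hr.dvd_of_dvd_pow h3)).mul_right _
    · exact h3.mul_left _

theorem prime_dvd_of_oddInn {R : Type*} [Group R] [Finite R] {S : Subgroup R} [S.Normal]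
    (hc : Subgroup.centralizer (S : Set R) = ⊥) (hodd : OddInn S) (h2 : 2 ∣ Nat.card S) {r : ℕ} (hr : r.Prime)
    (h : r ∣ Nat.card R) : r ∣ Nat.card S := by
  by_cases hr2 : r = 2
  · rw [hr2]
    exact h2
  have := Fact.mk hr
  obtain ⟨x, hx⟩ := exists_prime_orderOf_dvd_card' r h
  have h1 : orderOf (MulAut.conjNormal x : MulAut S) = r := by
    refine orderOf_eq_prime ?_ ?_
    · rw [← map_pow, ← hx, pow_orderOf_eq_one, map_one]
    · intro h3
      have h4 : x ∈ Subgroup.centralizer (S : Set R) := by
        rw [Subgroup.mem_centralizer_iff]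
        intro s hs
        have h5 := congrArg (fun f : MulAut S => ((f ⟨s, hs⟩ : S) : R)) h3
        simp only [MulAut.conjNormal_apply, MulAut.one_apply] at h5
        have h6 := congrArg (fun z => z * x) h5
        simp only [inv_mul_cancel_right] at h6
        exact h6.symm
      rw [hc, Subgroup.mem_bot] at h4
      rw [h4, orderOf_one] at hx
      exact hr.one_lt.ne hx
  obtain ⟨g, hg⟩ := hodd r hr hr2 _ h1
  rw [← h1, hg]
  exact (orderOf_map_dvd _ g).trans (orderOf_dvd_natCard g)

theorem oddInn_of_spor {S : Type} [Group S] {x : Grp × ℕ} (hx : x ∈ spor) (h : OrdDiv.Real x.1 S) : OddInn S := by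
  have key : IsSporadicGroup S → OddInn S := fun h => H566.oddInn_sporadic h
  simp only [spor, List.mem_cons, List.not_mem_nil, or_false] at hx
  rcases hx with rfl | rfl | rfl | rfl | rfl | rfl | rfl | rfl | rfl | rfl | rfl | rfl | rfl | rfl | rfl | rfl | rfl |
    rfl | rfl | rfl | rfl | rfl | rfl | rfl | rfl | rfl | rfl
  · exact Cfsg.Agent.BpSpor.Inn.tits h
  all_goals
    apply key
    simp only [OrdDiv.Real] at h
    unfold IsSporadicGroup
    simp only [h, true_or, or_true]

theorem six_dvd : ∀ x ∈ spor, 6 ∣ x.2 := by decide +kernel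

end Cfsg.Agent.H290.ElFin

private theorem dce_d57dbba5e2fc : _root_.True := by
  try have : _root_.True := by simp only [_root_.Cfsg.Agent.OrdDiv.Real.eq_6]
  try have : _root_.True := by simp only [_root_.Cfsg.Agent.OrdDiv.Real.eq_36]
  try have : _root_.True := by simp only [_root_.Cfsg.Agent.OrdDiv.Real.eq_33]
  try have : _root_.True := by simp only [_root_.Cfsg.Agent.OrdDiv.Real.eq_12]
  try have : _root_.True := by simp only [_root_.Cfsg.Agent.OrdDiv.Real.eq_30]
  try have : _root_.True := by simp only [_root_.Cfsg.Agent.OrdDiv.Real.eq_39]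
  try have : _root_.True := by simp only [_root_.Cfsg.Agent.OrdDiv.Real.eq_22]
  try have : _root_.True := by simp only [_root_.Cfsg.Agent.OrdDiv.Real.eq_2]
  try have : _root_.True := by simp only [_root_.Cfsg.Agent.OrdDiv.Real.eq_27]
  try have : _root_.True := by simp only [_root_.Cfsg.Agent.OrdDiv.Real.eq_38]
  try have : _root_.True := by simp only [_root_.Cfsg.Agent.OrdDiv.Real.eq_35]
  try have : _root_.True := by simp only [_root_.Cfsg.Agent.OrdDiv.Real.eq_17]
  try have : _root_.True := by simp only [_root_.Cfsg.Agent.OrdDiv.Real.eq_29]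
  try have : _root_.True := by simp only [_root_.Cfsg.Agent.OrdDiv.Real.eq_4]
  try have : _root_.True := by simp only [_root_.Cfsg.Agent.OrdDiv.Real.eq_8]
  try have : _root_.True := by simp only [_root_.Cfsg.Agent.OrdDiv.Real.eq_21]
  try have : _root_.True := by simp only [_root_.Cfsg.Agent.OrdDiv.Real.eq_31]
  try have : _root_.True := by simp only [_root_.Cfsg.Agent.OrdDiv.Real.eq_10]
  try have : _root_.True := by simp only [_root_.Cfsg.Agent.OrdDiv.Real.eq_18]
  try have : _root_.True := by simp only [_root_.Cfsg.Agent.OrdDiv.Real.eq_7]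
  try have : _root_.True := by simp only [_root_.Cfsg.Agent.OrdDiv.Real.eq_9]
  try have : _root_.True := by simp only [_root_.Cfsg.Agent.OrdDiv.Real.eq_5]
  try have : _root_.True := by simp only [_root_.Cfsg.Agent.OrdDiv.Real.eq_32]
  try have : _root_.True := by simp only [_root_.Cfsg.Agent.OrdDiv.Real.eq_34]
  try have : _root_.True := by simp only [_root_.Cfsg.Agent.OrdDiv.Real.eq_3]
  try have : _root_.True := by simp only [_root_.Cfsg.Agent.OrdDiv.Real.eq_19]
  try have : _root_.True := by simp only [_root_.Cfsg.Agent.OrdDiv.Real.eq_11]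
  try have : _root_.True := by simp only [_root_.Cfsg.Agent.OrdDiv.Real.eq_25]
  try have : _root_.True := by simp only [_root_.Cfsg.Agent.OrdDiv.Real.eq_41]
  try have : _root_.True := by simp only [_root_.Cfsg.Agent.OrdDiv.Real.eq_14]
  try have : _root_.True := by simp only [_root_.Cfsg.Agent.OrdDiv.Real.eq_28]
  try have : _root_.True := by simp only [_root_.Cfsg.Agent.OrdDiv.Real.eq_43]
  try have : _root_.True := by simp only [_root_.Cfsg.Agent.OrdDiv.Real.eq_1]
  try have : _root_.True := by simp only [_root_.Cfsg.Agent.OrdDiv.Real.eq_15]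
  try have : _root_.True := by simp only [_root_.Cfsg.Agent.OrdDiv.spor.eq_1]
  try have : _root_.True := by simp only [_root_.Cfsg.Agent.OrdDiv.Real.eq_13]
  try have : _root_.True := by simp only [_root_.Cfsg.Agent.OrdDiv.Real.eq_24]
  try have : _root_.True := by simp only [_root_.Cfsg.Agent.OrdDiv.Real.eq_42]
  try have : _root_.True := by simp only [_root_.Cfsg.Agent.OrdDiv.Real.eq_23]
  try have : _root_.True := by simp only [_root_.Cfsg.Agent.OrdDiv.Real.eq_16]
  try have : _root_.True := by simp only [_root_.Cfsg.Agent.OrdDiv.Real.eq_20]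
  try have : _root_.True := by simp only [_root_.Cfsg.Agent.OrdDiv.Real.eq_44]
  try have : _root_.True := by simp only [_root_.Cfsg.Agent.OrdDiv.Real.eq_26]
  try have : _root_.True := by simp only [_root_.Cfsg.Agent.OrdDiv.Real.eq_37]
  try have : _root_.True := by simp only [_root_.Cfsg.Agent.OrdDiv.Real.eq_40]
  exact _root_.True.intro
end

-- part: H171/EqF/ER
section
set_option linter.all false

/-!
The equation lemmas of `ER` are written here once, so that the files that unfold `ER` find them and do not write their own copies.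
-/

set_option autoImplicit false

theorem Cfsg.Agent.H171.EqF.er_nine : type_of% @Cfsg.Agent.H290.ElTab.ER.eq_9 := @Cfsg.Agent.H290.ElTab.ER.eq_9

private theorem dce_8edbe7aa0001 : _root_.True := by
  try have : _root_.True := by simp only [_root_.Cfsg.Agent.H290.ElTab.ER.eq_3]
  try have : _root_.True := by simp only [_root_.Cfsg.Agent.H290.ElTab.ER.eq_6]
  try have : _root_.True := by simp only [_root_.Cfsg.Agent.H290.ElTab.ER.eq_5]
  try have : _root_.True := by simp only [_root_.Cfsg.Agent.H290.ElTab.ER.eq_7]
  try have : _root_.True := by simp only [_root_.Cfsg.Agent.H290.ElTab.ER.eq_9]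
  try have : _root_.True := by simp only [_root_.Cfsg.Agent.H290.ElTab.ER.eq_4]
  try have : _root_.True := by simp only [_root_.Cfsg.Agent.H290.ElTab.ER.eq_8]
  try have : _root_.True := by simp only [_root_.Cfsg.Agent.H290.ElTab.ER.eq_1]
  try have : _root_.True := by simp only [_root_.Cfsg.Agent.H290.ElTab.EA._sparseCasesOn_1.else_eq]
  try have : _root_.True := by simp only [_root_.Cfsg.Agent.H290.ElTab.ER.eq_2]
  exact _root_.True.intro
end
end
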