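import Mathlib
import Cfsg.Agent.UGT.I34.OnCode_m3
import Cfsg.Agent.StandardComponent.AltAut
import Cfsg.Prelude.Def_Local
import Cfsg.Prelude.Def_LieTypeChar
import Cfsg.Agent.FixBN.LOAll
import Cfsg.Agent.FixBN.FixSplit
import Cfsg.Agent.FixBN.ReeSplit
import Cfsg.Agent.FixBN.HeStab
import Cfsg.Agent.CTwoTab.Kinds
import Cfsg.Agent.Cit.CloseCor_m3
import Cfsg.Agent.OddHalf.Stmts_m3
import Cfsg.Agent.ClassificationK.PCompTransport
import Cfsg.Agent.SignalizersComponents.EvenComponent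
import Cfsg.Agent.Lib.ComponentSolvable
import Cfsg.Agent.Lib.Cores
import Cfsg.Agent.H284.StdRed
import Cfsg.Agent.Schreier.Basic
import Cfsg.Agent.S0892
import Cfsg.Agent.FastGrp
import Cfsg.Agent.Prune
set_option linter.all false
prune_inst 0x7f00000000000000000000000000000000000000000000000000000000000000000000000000000000000000000000000000000000000000000000000000000000000000000000000000000000000000003fffffffffffffffffffffffffffbeffbdffffffff
open scoped Cfsg.Agent.FastGrp

-- part: H290/UnbA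
section
/-!
An odd group acting nontrivially on `A_k`, centralised by an involution `x` and normalised by `C_{A_k}(x)`:
it meets `A_k` in a group containing a three-cycle.
-/

set_option autoImplicit false

open Equiv Equiv.Perm Subgroup

namespace Cfsg.Agent.H290.UnbA

section Act

variable {G : Type*} [Group G] {k : ℕ} {J : Subgroup G} (e : J ≃* alternatingGroup (Fin k))

/-- `s` describes the action of `g` on `J`. -/
def Ac (g : G) (s : Perm (Fin k)) : Prop :=
  ∀ (j : J), ∃ h : g * j * g⁻¹ ∈ J, (e ⟨g * j * g⁻¹, h⟩ : Perm (Fin k)) = s * (e j : Perm (Fin k)) * s⁻¹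

variable {e}

theorem exists_ac (hk : 7 ≤ k) {g : G} (hg : ∀ j, j ∈ J ↔ g * j * g⁻¹ ∈ J) : ∃ s, Ac e g s := by
  obtain ⟨m, rfl⟩ : ∃ m, k = m + 2 := ⟨k - 2, by omega⟩
  let a : MulAut J :=
    { toFun := fun j => ⟨g * j * g⁻¹, (hg j).1 j.2⟩
      invFun := fun j => ⟨g⁻¹ * j * g, (hg _).2 (by
        have : g * (g⁻¹ * (j : G) * g) * g⁻¹ = j := by group
        rw [this]; exact j.2)⟩
      left_inv := fun j => Subtype.ext (by
        change g⁻¹ * (g * (j : G) * g⁻¹) * g = j
        group)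
      right_inv := fun j => Subtype.ext (by
        change g * (g⁻¹ * (j : G) * g) * g⁻¹ = j
        group)
      map_mul' := fun j l => Subtype.ext (by
        change g * ((j : G) * l) * g⁻¹ = (g * j * g⁻¹) * (g * l * g⁻¹)
        group) }
  obtain ⟨s, hs⟩ := StandardComponent.AltAut.exists_conj (m := m) (by omega)
    ((e.symm.trans a).trans e)
  refine ⟨s, fun j => ⟨(hg j).1 j.2, ?_⟩⟩
  have h1 := hs (e j)
  change ((e (a (e.symm (e j))) : alternatingGroup (Fin (m + 2))) : Perm (Fin (m + 2))) = _ at h1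
  rw [e.symm_apply_apply] at h1
  exact h1

theorem Ac.unique (hk : 4 ≤ k) {g : G} {s t : Perm (Fin k)} (hs : Ac e g s) (ht : Ac e g t) : s = t := by
  obtain ⟨m, rfl⟩ : ∃ m, k = m + 2 := ⟨k - 2, by omega⟩
  have h : t⁻¹ * s = 1 := by
    apply StandardComponent.AltAut.eq_one_of_centralizes (m := m) (by omega)
    intro x
    obtain ⟨h1, h2⟩ := hs (e.symm x)
    obtain ⟨h3, h4⟩ := ht (e.symm x)
    rw [e.apply_symm_apply] at h2 h4
    have h5 := h2.symm.trans h4
    calc t⁻¹ * s * (x : Perm (Fin (m + 2))) * (t⁻¹ * s)⁻¹ = t⁻¹ * (s * x * s⁻¹) * t := by group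
      _ = t⁻¹ * (t * x * t⁻¹) * t := by rw [h5]
      _ = x := by group
  rw [inv_mul_eq_one] at h
  exact h.symm

theorem Ac.mul {g h : G} {s t : Perm (Fin k)} (hs : Ac e g s) (ht : Ac e h t) :
    Ac e (g * h) (s * t) := by
  intro j
  obtain ⟨h1, h2⟩ := ht j
  obtain ⟨h3, h4⟩ := hs ⟨_, h1⟩
  have e1 : g * h * (j : G) * (g * h)⁻¹ = g * (h * j * h⁻¹) * g⁻¹ := by group
  have h5 : g * h * (j : G) * (g * h)⁻¹ ∈ J := by rw [e1]; exact h3
  refine ⟨h5, ?_⟩
  have h6 : (⟨_, h5⟩ : J) = ⟨_, h3⟩ := Subtype.ext e1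
  rw [h6, h4, h2]
  group

theorem Ac.inv {g : G} {s : Perm (Fin k)} (hg : ∀ j, j ∈ J ↔ g * j * g⁻¹ ∈ J) (hs : Ac e g s) :
    Ac e g⁻¹ s⁻¹ := by
  intro j
  have h1 : g⁻¹ * (j : G) * g⁻¹⁻¹ ∈ J := by
    rw [hg]
    have : g * (g⁻¹ * (j : G) * g⁻¹⁻¹) * g⁻¹ = j := by group
    rw [this]
    exact j.2
  refine ⟨h1, ?_⟩
  obtain ⟨h2, h3⟩ := hs ⟨_, h1⟩
  have h4 : (⟨_, h2⟩ : J) = j := Subtype.ext (by
    change g * (g⁻¹ * (j : G) * g⁻¹⁻¹) * g⁻¹ = j
    group)
  rw [h4] at h3
  rw [h3]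
  group

theorem ac_self (j : J) : Ac e (j : G) (e j : Perm (Fin k)) := by
  intro l
  have h : (j : G) * l * (j : G)⁻¹ ∈ J := J.mul_mem (J.mul_mem j.2 l.2) (J.inv_mem j.2)
  refine ⟨h, ?_⟩
  have : (⟨_, h⟩ : J) = j * l * j⁻¹ := rfl
  rw [this, map_mul, map_mul, map_inv]
  rfl

theorem ac_one : Ac e (1 : G) (1 : Perm (Fin k)) := by
  have := ac_self (e := e) (1 : J)
  simpa using this

end Act

/-- three points -/
theorem three_eq {α : Type*} [Fintype α] [DecidableEq α] {F : Finset α} (hF : F.card ≤ 3) {w : Perm α}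
    (hw : ∃ j : ℕ, (w ^ 2) ^ j = w) (hsub : w.support ⊆ F) (hne : w ≠ 1) :
    w.IsThreeCycle ∧ w.support = F := by
  have h1 : w.support.card ≤ 3 := (Finset.card_le_card hsub).trans hF
  have h2 : w.support.card ≠ 0 := by
    rw [Ne, Finset.card_eq_zero, support_eq_empty_iff]; exact hne
  have h3 : w.support.card ≠ 1 := w.card_support_ne_one
  have h4 : w.support.card ≠ 2 := by
    intro h
    rw [card_support_eq_two] at h
    apply hne
    obtain ⟨j, hj⟩ := hw
    obtain ⟨a, b, -, hab⟩ := h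
    rw [← hj, hab, pow_two, swap_mul_self, one_pow]
  have h5 : w.support.card = 3 := by omega
  refine ⟨card_support_eq_three_iff.1 h5, Finset.eq_of_subset_of_card_le hsub (by omega)⟩

/-- **The three-cycle.** -/
theorem three_mem {G : Type*} [Group G] [Finite G] {k : ℕ} (hk : 7 ≤ k) {J : Subgroup G}
    (e : J ≃* alternatingGroup (Fin k)) {x : G} (hx : x * x = 1)
    (hxJ : ∀ j, j ∈ J ↔ x * j * x⁻¹ ∈ J) {D : Subgroup G} (hD : Odd (Nat.card D))
    (hDx : ∀ d ∈ D, x * d = d * x) (hDJ : ∀ d ∈ D, ∀ j, j ∈ J ↔ d * j * d⁻¹ ∈ J)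
    (hJD : ∀ j ∈ J, x * j = j * x → ∀ d ∈ D, j * d * j⁻¹ ∈ D)
    (hne : ∃ d ∈ D, ∃ j ∈ J, d * j ≠ j * d) :
    ∃ t ∈ J, t ∈ D ∧ t ≠ 1 ∧ t ^ 3 = 1 := by
  classical
  obtain ⟨s, hs⟩ := exists_ac (e := e) hk hxJ
  have hss : s * s = 1 := by
    refine Ac.unique (e := e) (by omega) (hs.mul hs) ?_
    rw [hx]
    exact ac_one
  have hs2 : ∀ y, s (s y) = y := fun y => by
    rw [← Perm.mul_apply, hss, Perm.one_apply]
  -- the image of `D`
  let W : Subgroup (Perm (Fin k)) :=
    { carrier := {w | ∃ d ∈ D, Ac e d w}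
      one_mem' := ⟨1, D.one_mem, ac_one⟩
      mul_mem' := by
        rintro a b ⟨d, hd, ha⟩ ⟨d', hd', hb⟩
        exact ⟨d * d', D.mul_mem hd hd', ha.mul hb⟩
      inv_mem' := by
        rintro a ⟨d, hd, ha⟩
        exact ⟨d⁻¹, D.inv_mem hd, ha.inv (hDJ d hd)⟩ }
  have hWodd : ∀ w ∈ W, ∃ j : ℕ, (w ^ 2) ^ j = w := by
    rintro w ⟨d, hd, ha⟩
    obtain ⟨j, hj⟩ := FixBN.AltSB.exists_pow_of_odd hD hd
    have hpow : ∀ n : ℕ, Ac e (d ^ n) (w ^ n) := by
      intro n
      induction n with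
      | zero => simpa using ac_one (e := e)
      | succ n ih => rw [pow_succ, pow_succ]; exact ih.mul ha
    refine ⟨j, Ac.unique (e := e) (g := d) (by omega) ?_ ha⟩
    have := hpow (2 * j)
    rw [pow_mul, hj, pow_mul] at this
    exact this
  have hWc : ∀ w ∈ W, ∀ y, w (s y) = s (w y) := by
    rintro w ⟨d, hd, ha⟩ y
    have h1 : w * s = s * w := by
      refine Ac.unique (e := e) (g := d * x) (by omega) (ha.mul hs) ?_
      rw [← hDx d hd]
      exact hs.mul ha
    rw [← Perm.mul_apply, h1, Perm.mul_apply]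
  have hcomm : ∀ u : Perm (Fin k), u ∈ alternatingGroup (Fin k) → (∀ y, u (s y) = s (u y)) →
      ∃ j : J, (e j : Perm (Fin k)) = u ∧ x * (j : G) = (j : G) * x := by
    intro u hu hus
    refine ⟨e.symm ⟨u, hu⟩, by rw [e.apply_symm_apply], ?_⟩
    obtain ⟨h1, h2⟩ := hs (e.symm ⟨u, hu⟩)
    rw [e.apply_symm_apply] at h2
    have h3 : s * u * s⁻¹ = u := by
      have : s * u = u * s := Equiv.ext fun y => (hus y).symm
      rw [this, mul_inv_cancel_right]
    have h4 : e ⟨_, h1⟩ = e (e.symm ⟨u, hu⟩) := by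
      rw [e.apply_symm_apply]
      exact Subtype.ext (h2.trans h3)
    have h5 := congrArg Subtype.val (e.injective h4)
    change x * ((e.symm ⟨u, hu⟩ : J) : G) * x⁻¹ = ((e.symm ⟨u, hu⟩ : J) : G) at h5
    rw [mul_inv_eq_iff_eq_mul] at h5
    exact h5
  have hWn : ∀ w ∈ W, ∀ u ∈ alternatingGroup (Fin k), (∀ y, u (s y) = s (u y)) →
      u * w * u⁻¹ ∈ W := by
    rintro w ⟨d, hd, ha⟩ u hu hus
    obtain ⟨j, hj, hjx⟩ := hcomm u hu hus
    refine ⟨j * d * (j : G)⁻¹, hJD j j.2 hjx d hd, ?_⟩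
    have h1 := ac_self (e := e) j
    rw [hj] at h1
    refine (h1.mul ha).mul (h1.inv fun l => ?_)
    constructor
    · intro hl; exact J.mul_mem (J.mul_mem j.2 hl) (J.inv_mem j.2)
    · intro hl
      have := J.mul_mem (J.mul_mem (J.inv_mem j.2) hl) j.2
      have e2 : (j : G)⁻¹ * (j * l * (j : G)⁻¹) * j = l := by group
      rwa [e2] at this
  -- `W` is not trivial
  obtain ⟨d, hd, j0, hj0, hdj⟩ := hne
  obtain ⟨w, hw⟩ := exists_ac (e := e) hk (hDJ d hd)
  have hwW : w ∈ W := ⟨d, hd, hw⟩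
  have hw1 : w ≠ 1 := by
    rintro rfl
    apply hdj
    obtain ⟨h1, h2⟩ := hw ⟨j0, hj0⟩
    rw [one_mul, inv_one, mul_one] at h2
    have h3 := congrArg Subtype.val (e.injective (Subtype.ext h2))
    change d * j0 * d⁻¹ = j0 at h3
    rw [mul_inv_eq_iff_eq_mul] at h3
    exact h3
  have hmoved : ∀ a, s a ≠ a → w a = a := fun a ha =>
    FixBN.AltSB.fix_moved hs2 hWc hWodd hWn hwW ha
  set F : Finset (Fin k) := Finset.univ.filter fun a => s a = a with hF
  have hFc : F.card ≤ 3 := by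
    by_contra hlt
    push Not at hlt
    apply hw1
    refine Equiv.ext fun a => ?_
    by_cases ha : s a = a
    · refine FixBN.AltSB.fix_fixed hWc hWodd hWn ?_ hwW ha
      rw [Nat.card_eq_fintype_card, Fintype.card_subtype]
      exact hlt
    · exact hmoved a ha
  have hsupp : w.support ⊆ F := by
    intro a ha
    rw [hF, Finset.mem_filter]
    refine ⟨Finset.mem_univ _, ?_⟩
    by_contra h
    exact (mem_support.1 ha) (hmoved a h)
  obtain ⟨hw3, hwF⟩ := three_eq hFc (hWodd w hwW) hsupp hw1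
  have hF3 : F.card = 3 := by rw [← hwF]; exact hw3.card_support
  -- a moved point
  obtain ⟨c, hc⟩ : ∃ c, s c ≠ c := by
    by_contra h
    push Not at h
    have : F = Finset.univ := Finset.eq_univ_iff_forall.2 fun a => by
      rw [hF, Finset.mem_filter]; exact ⟨Finset.mem_univ _, h a⟩
    rw [this, Finset.card_univ, Fintype.card_fin] at hF3
    omega
  obtain ⟨a, ha⟩ := StandardComponent.AltAut.exists_ne hw3
  have hFix : ∀ b, w b ≠ b → s b = b := fun b hb => by
    have := hsupp (mem_support.2 hb)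
    rw [hF, Finset.mem_filter] at this
    exact this.2
  have ha2 : w (w a) ≠ w a := fun h => ha (w.injective h)
  have hsa := hFix a ha
  have hswa := hFix (w a) ha2
  have hswwa := hFix (w (w a)) (fun h => ha2 (w.injective h))
  have hne1 : w (w a) ≠ a := StandardComponent.AltAut.apply_two_ne hw3 ha
  have hca : a ≠ c := fun h => hc (h ▸ hsa)
  have hcwa : w a ≠ c := fun h => hc (h ▸ hswa)
  have hcwwa : w (w a) ≠ c := fun h => hc (h ▸ hswwa)
  have hsca : ∀ b, s b = b → b ≠ s c := fun b hb h => hc (s.injective (by rw [← h, hb, h]))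
  obtain ⟨u, hu⟩ : ∃ u, u = swap a (w a) * swap c (s c) := ⟨_, rfl⟩
  have huA : u ∈ alternatingGroup (Fin k) := by
    rw [hu]
    exact mul_mem_alternatingGroup_of_isSwap ⟨_, _, ha.symm, rfl⟩ ⟨_, _, hc.symm, rfl⟩
  have hus : ∀ y, u (s y) = s (u y) := by
    intro y
    rw [hu, Perm.mul_apply, Perm.mul_apply, FixBN.AltSB.comm_s hs2]
    have h1 : ∀ z, swap a (w a) (s z) = s (swap a (w a) z) := by
      intro z
      have h2 := Equiv.swap_apply_apply s a (w a)
      rw [hsa, hswa] at h2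
      have h3 : swap a (w a) * s = s * swap a (w a) := by
        conv_lhs => rw [h2]
        group
      exact congrArg (fun f : Perm (Fin k) => f z) h3
    exact h1 _
  obtain ⟨j, hj, hjx⟩ := hcomm u huA hus
  -- `t = [j, d]`
  obtain ⟨t, ht⟩ : ∃ t, t = (j : G) * d * (j : G)⁻¹ * d⁻¹ := ⟨_, rfl⟩
  have htJ : t ∈ J := by
    have h1 : d * (j : G)⁻¹ * d⁻¹ ∈ J := (hDJ d hd _).1 (J.inv_mem j.2)
    have h2 : t = j * (d * (j : G)⁻¹ * d⁻¹) := by rw [ht]; group
    rw [h2]
    exact J.mul_mem j.2 h1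
  have hjJ : ∀ l, l ∈ J ↔ (j : G) * l * (j : G)⁻¹ ∈ J := by
    intro l
    constructor
    · intro hl; exact J.mul_mem (J.mul_mem j.2 hl) (J.inv_mem j.2)
    · intro hl
      have := J.mul_mem (J.mul_mem (J.inv_mem j.2) hl) j.2
      have e2 : (j : G)⁻¹ * (j * l * (j : G)⁻¹) * j = l := by group
      rwa [e2] at this
  have het : (e ⟨t, htJ⟩ : Perm (Fin k)) = u * w * u⁻¹ * w⁻¹ := by
    refine Ac.unique (e := e) (g := t) (by omega) (ac_self ⟨t, htJ⟩) ?_
    have h1 := ac_self (e := e) j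
    rw [hj] at h1
    rw [ht]
    exact ((h1.mul hw).mul (h1.inv hjJ)).mul (hw.inv (hDJ d hd))
  have huwa : u (w a) = a := by
    rw [hu, Perm.mul_apply, swap_apply_of_ne_of_ne hcwa (hsca _ hswa), swap_apply_right]
  have huinv : u⁻¹ a = w a := by
    have : u⁻¹ (u (w a)) = w a := u.symm_apply_apply (w a)
    rwa [huwa] at this
  have huwwa : u (w (w a)) = w (w a) := by
    rw [hu, Perm.mul_apply, swap_apply_of_ne_of_ne hcwwa (hsca _ hswwa),
      swap_apply_of_ne_of_ne hne1 (fun h => ha (w.injective h))]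
  have hvF : (u * w * u⁻¹).support = w.support := by
    rw [support_conj, hwF]
    refine Finset.eq_of_subset_of_card_le ?_ (by rw [Finset.card_map])
    intro b hb
    rw [Finset.mem_map] at hb
    obtain ⟨b', hb', rfl⟩ := hb
    rw [hF, Finset.mem_filter] at hb' ⊢
    refine ⟨Finset.mem_univ _, ?_⟩
    change s (u b') = u b'
    rw [← hus, hb'.2]
  have hv3 : (u * w * u⁻¹).IsThreeCycle := by
    rw [← card_support_eq_three_iff, hvF]
    exact hw3.card_support
  have hvw : u * w * u⁻¹ = w⁻¹ := by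
    rcases StandardComponent.AltAut.eq_or_of_support hw3 hv3 hvF.symm with h | h
    · exfalso
      have h1 := congrArg (fun f : Perm (Fin k) => f a) h
      change w a = u (w (u⁻¹ a)) at h1
      rw [huinv, huwwa] at h1
      exact ha (w.injective h1).symm
    · exact h
  have hcube : w ^ 3 = 1 := StandardComponent.AltAut.cube_eq_one hw3
  refine ⟨t, htJ, ?_, ?_, ?_⟩
  · rw [ht]
    exact D.mul_mem (hJD j j.2 hjx d hd) (D.inv_mem hd)
  · rintro h1
    have h2 : e ⟨t, htJ⟩ = 1 := by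
      have : (⟨t, htJ⟩ : J) = 1 := Subtype.ext h1
      rw [this, map_one]
    rw [h2, hvw] at het
    have h3 : w * w = 1 := by
      have : (w⁻¹ * w⁻¹)⁻¹ = 1 := by rw [← het]; simp
      simpa using this
    apply hne1
    have := congrArg (fun f : Perm (Fin k) => f a) h3
    exact this
  · have h1 : e (⟨t, htJ⟩ ^ 3) = 1 := by
      apply Subtype.ext
      rw [map_pow]
      change (e ⟨t, htJ⟩ : Perm (Fin k)) ^ 3 = 1
      rw [het, hvw]
      have : (w⁻¹ * w⁻¹) ^ 3 = ((w ^ 3)⁻¹) ^ 2 := by group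
      rw [this, hcube]
      simp
    have h2 : (⟨t, htJ⟩ : J) ^ 3 = 1 := by
      apply e.injective
      rw [h1, map_one]
    exact congrArg Subtype.val h2

end Cfsg.Agent.H290.UnbA
end

-- part: H290/UnbRed
section
/-!
Reduction of the odd alternating unbalancing triples (S3123) to the exclusion of alternating components of
centralizers of automorphisms of order two of groups of Lie type of characteristic at least five.
-/

set_option autoImplicit false

open Subgroup Cfsg

universe u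

namespace Cfsg.Agent.H290.UnbRed

open scoped commutatorElement

/-- `card A_k`. -/
theorem two_mul_card_alt {k : ℕ} (hk : 2 ≤ k) : 2 * Nat.card (alternatingGroup (Fin k)) = Nat.factorial k := by
  have : Nontrivial (Fin k) := Fin.nontrivial_iff_two_le.2 hk
  rw [Nat.card_eq_fintype_card]
  have h := two_mul_card_alternatingGroup (α := Fin k)
  rwa [Fintype.card_perm, Fintype.card_fin] at h

section Component

variable {G : Type*} [Group G] [Finite G] {a : G} {J : Subgroup ↥(centralizer ({a} : Set G))}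

/-- 2-components are components. -/
theorem isComponent (hodd : ∀ D : Subgroup ↥(centralizer ({a} : Set G)), Odd (Nat.card D) → Group.IsSolvable D)
    (hB : pLayer 2 ↥(centralizer ({a} : Set G)) = layer ↥(centralizer ({a} : Set G)))
    (hJ : IsPComponent 2 J) : IsComponent J := by
  apply ClassificationK.PCompTransport.isComponent_of_isPComponent 2 hJ
  rw [commutator_eq_bot_iff_le_centralizer]
  have h1 : J ≤ pLayer 2 ↥(centralizer ({a} : Set G)) := le_sSup hJ
  rw [hB] at h1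
  have h2 : (pPrimeCore 2 ↥(centralizer ({a} : Set G))).Normal := Lib.Cores.pPrimeCore_normal 2
  have h3 := Lib.Cores.pPrimeCore_coprime (G := ↥(centralizer ({a} : Set G))) 2
  exact h1.trans (Lib.ComponentSolvable.layer_le_centralizer_of_normal_solvable h2
    (hodd _ (Nat.coprime_two_right.1 h3)))

/-- A quasisimple group with `J/O(J) ≅ A_k`, `k ≥ 8`, is `A_k`. -/
theorem exists_equiv_alt {J : Type*} [Group J] [Finite J] (hq : IsQuasisimple J) {k : ℕ} (hk : 8 ≤ k)
    (e : J ⧸ oddCore J ≃* alternatingGroup (Fin k)) : oddCore J = ⊥ ∧ Nonempty (J ≃* alternatingGroup (Fin k)) := by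
  have hn1 : (oddCore J).Normal := Lib.Cores.pPrimeCore_normal 2
  have h2 : Even (Nat.card (alternatingGroup (Fin k))) := by
    have h1 := two_mul_card_alt (k := k) (by omega)
    have h3 : 4 ∣ Nat.factorial k := (Nat.dvd_factorial (by norm_num) (by omega)).trans dvd_rfl
    obtain ⟨c, hc⟩ := h3
    exact ⟨c, by omega⟩
  have h3 : Even (Nat.card J) := by
    rw [even_iff_two_dvd] at h2 ⊢
    rw [← Nat.card_congr e.toEquiv] at h2
    exact h2.trans (Subgroup.card_quotient_dvd_card _)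
  have hO := H284.StdRed.oddCore_le_center hq h3
  have h4 := S0892.result k (by omega) (by omega) (by omega) (oddCore J) hO
    (by rw [hq.1.commutator_eq_top]; exact le_top) e
  have h5 := Lib.Cores.pPrimeCore_coprime (G := J) 2
  have h6 : Odd (Nat.card (oddCore J)) := Nat.coprime_two_right.1 h5
  have h7 : 0 < Nat.card (oddCore J) := Nat.card_pos
  have h8 : Nat.card (oddCore J) = 1 := by
    rcases h6 with ⟨c, hc⟩
    omega
  have h9 : oddCore J = ⊥ := Subgroup.card_eq_one.1 h8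
  exact ⟨h9, ⟨((QuotientGroup.quotientMulEquivOfEq h9).trans QuotientGroup.quotientBot).symm.trans e⟩⟩

end Component

section Triple

variable {G : Type*} [Group G]

/-- Perfect subgroups are contained in a normal subgroup with trivial centralizer and the Schreier property. -/
theorem le_of_sch {L J : Subgroup G} [L.Normal] (hC : centralizer (L : Set G) = ⊥)
    (hS : Schreier.Basic.Sch L) (hJ : ⁅J, J⁆ = J) : J ≤ L := by
  intro j hj
  obtain ⟨l, hl⟩ := hS _ (Schreier.Basic.map_perfect (MulAut.conjNormal : G →* MulAut L) hJ)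
    (mem_map_of_mem _ hj)
  have h3 : (l : G)⁻¹ * j ∈ centralizer (L : Set G) := by
    rw [mem_centralizer_iff]
    intro y hy
    have h4 := congrArg (fun f : MulAut L => ((f ⟨y, hy⟩ : L) : G)) hl
    simp only [MulAut.conj_apply, MulAut.conjNormal_apply, coe_mul, coe_inv] at h4
    have h5 : (l : G) * y * (l : G)⁻¹ = j * y * j⁻¹ := h4
    calc y * ((l : G)⁻¹ * j) = (l : G)⁻¹ * (l * y * (l : G)⁻¹) * j := by group
      _ = (l : G)⁻¹ * (j * y * j⁻¹) * j := by rw [h5]
      _ = (l : G)⁻¹ * j * y := by group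
  rw [hC, mem_bot, inv_mul_eq_one] at h3
  rw [← h3]
  exact l.2

/-- The three-element in `J ∩ O(C(x))`. -/
theorem three_mem [Finite G] {a x : G} {J : Subgroup G} (hx : orderOf x = 2)
    (hJa : J ≤ centralizer ({a} : Set G)) (hJx : ∀ l ∈ J, x * l * x⁻¹ ∈ J)
    (hJu : J = ⁅J, centralizerPPrimeCore 2 x ⊓ centralizer ({a} : Set G)⁆)
    {k : ℕ} (hk : 7 ≤ k) (e : J ≃* alternatingGroup (Fin k)) :
    ∃ t ∈ J, t ∈ centralizerPPrimeCore 2 x ∧ t ≠ 1 ∧ t ^ 3 = 1 := by
  set D : Subgroup G := centralizerPPrimeCore 2 x ⊓ centralizer ({a} : Set G) with hD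
  have hxx : x * x = 1 := by rw [← sq, ← hx, pow_orderOf_eq_one]
  have hxi : x⁻¹ = x := inv_eq_of_mul_eq_one_left hxx
  have hodd : Odd (Nat.card ↥(centralizerPPrimeCore 2 x)) := by
    have h1 := Lib.Cores.pPrimeCore_coprime (G := ↥(centralizer ({x} : Set G))) 2
    have h2 : Nat.card ↥(centralizerPPrimeCore 2 x) = Nat.card ↥(pPrimeCore 2 ↥(centralizer ({x} : Set G))) :=
      Nat.card_congr (Subgroup.equivMapOfInjective _ _ (subtype_injective _)).symm.toEquiv
    rw [h2]
    exact Nat.coprime_two_right.1 h1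
  have hcore : ∀ g : G, x * g = g * x → ∀ d ∈ centralizerPPrimeCore 2 x, g * d * g⁻¹ ∈ centralizerPPrimeCore 2 x := by
    rintro g hg _ ⟨d, hd, rfl⟩
    have hn : (pPrimeCore 2 ↥(centralizer ({x} : Set G))).Normal := Lib.Cores.pPrimeCore_normal 2
    have hg' : g ∈ centralizer ({x} : Set G) := by
      rw [mem_centralizer_singleton_iff]; exact hg.symm
    exact ⟨(⟨g, hg'⟩ * d * ⟨g, hg'⟩⁻¹ :), hn.conj_mem d hd _, rfl⟩
  have hdx : ∀ d ∈ centralizerPPrimeCore 2 x, x * d = d * x := by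
    rintro _ ⟨d, hd, rfl⟩
    exact (mem_centralizer_singleton_iff.1 d.2).symm
  have hJx' : ∀ j, j ∈ J ↔ x * j * x⁻¹ ∈ J := fun j => ⟨hJx j, fun h => by
    have h1 := hJx _ h
    have h2 : x * (x * j * x⁻¹) * x⁻¹ = (x * x) * j * (x * x)⁻¹ := by group
    rw [h2, hxx, one_mul, inv_one, mul_one] at h1
    exact h1⟩
  have hDJ1 : ∀ d ∈ D, ∀ j ∈ J, d * j * d⁻¹ ∈ J := by
    intro d hd j hj
    have h1 : ⁅j, d⁆ ∈ J := by
      rw [hJu]
      exact commutator_mem_commutator hj hd
    have h2 : d * j * d⁻¹ = ⁅j, d⁆⁻¹ * j := by rw [commutatorElement_def]; group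
    rw [h2]
    exact mul_mem (inv_mem h1) hj
  obtain ⟨t, ht, htD, h1, h3⟩ := UnbA.three_mem (D := D) hk e hxx hJx'
    (hodd.of_dvd_nat (Subgroup.card_dvd_of_le inf_le_left)) (fun d hd => hdx d hd.1)
    (fun d hd j => ⟨hDJ1 d hd j, fun h => by
      have h1 := hDJ1 d⁻¹ (inv_mem hd) _ h
      have h2 : d⁻¹ * (d * j * d⁻¹) * d⁻¹⁻¹ = j := by group
      rwa [h2] at h1⟩)
    (fun j hj hxj d hd => ⟨hcore j hxj d hd.1,
      Subgroup.mul_mem _ (Subgroup.mul_mem _ (hJa hj) hd.2) (Subgroup.inv_mem _ (hJa hj))⟩) (by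
      by_contra hcon
      push Not at hcon
      have h1 : ⁅J, D⁆ = ⊥ := by
        rw [commutator_eq_bot_iff_le_centralizer]
        intro j hj
        rw [mem_centralizer_iff]
        exact fun d hd => hcon d hd j hj
      rw [h1] at hJu
      have h2 : Nat.card J = 1 := by rw [hJu]; exact Subgroup.card_bot
      have h3 := two_mul_card_alt (k := k) (by omega)
      rw [← Nat.card_congr e.toEquiv, h2] at h3
      have h4 : Nat.factorial 7 ≤ Nat.factorial k := Nat.factorial_le hk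
      have h5 : Nat.factorial 7 = 5040 := rfl
      omega)
  exact ⟨t, ht, htD.1, h1, h3⟩

/-- The simple groups of Lie type of characteristic three have a split (B,N)-pair. -/
theorem hasSplit_three {L : Type*} [Group L] [IsSimpleGroup L] (h : IsLieTypeChar 3 L) : FixBN.HasSplit 3 L := by
  rcases FixBN.exists_good_model (by norm_num) h with ⟨K, _, _, _, _, hK, ⟨e⟩⟩ | h
  · exact FixBN.Transport.hasSplit_congr e.symm hK.hasSplit
  · exact FixBN.ReeSplit.hasSplit_of_isoRee h

/-- The core of the centralizer of an involution of a group of Lie type of characteristic three has order prime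
to three. -/
theorem not_three [Finite G] {L : Subgroup G} [L.Normal] (hs : IsSimpleGroup L) (h : IsLieTypeChar 3 L) {x : G}
    (hx : orderOf x = 2) {t : G} (htL : t ∈ L) (ht : t ∈ centralizerPPrimeCore 2 x) (h1 : t ≠ 1)
    (h3 : t ^ 3 = 1) : False := by
  have hxx : x * x = 1 := by rw [← sq, ← hx, pow_orderOf_eq_one]
  have hodd : Odd (Nat.card ↥(centralizerPPrimeCore 2 x)) := by
    have h1 := Lib.Cores.pPrimeCore_coprime (G := ↥(centralizer ({x} : Set G))) 2
    have h2 : Nat.card ↥(centralizerPPrimeCore 2 x) = Nat.card ↥(pPrimeCore 2 ↥(centralizer ({x} : Set G))) :=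
      Nat.card_congr (Subgroup.equivMapOfInjective _ _ (subtype_injective _)).symm.toEquiv
    rw [h2]
    exact Nat.coprime_two_right.1 h1
  have hcore : ∀ g : G, x * g = g * x → ∀ d ∈ centralizerPPrimeCore 2 x, g * d * g⁻¹ ∈ centralizerPPrimeCore 2 x := by
    rintro g hg _ ⟨d, hd, rfl⟩
    have hn : (pPrimeCore 2 ↥(centralizer ({x} : Set G))).Normal := Lib.Cores.pPrimeCore_normal 2
    have hg' : g ∈ centralizer ({x} : Set G) := by
      rw [mem_centralizer_singleton_iff]; exact hg.symm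
    exact ⟨(⟨g, hg'⟩ * d * ⟨g, hg'⟩⁻¹ :), hn.conj_mem d hd _, rfl⟩
  have hdx : ∀ d ∈ centralizerPPrimeCore 2 x, x * d = d * x := by
    rintro _ ⟨d, hd, rfl⟩
    exact (mem_centralizer_singleton_iff.1 d.2).symm
  let τ : L ≃* L := MulAut.conjNormal x
  have hτc : ∀ g : L, ((τ g : L) : G) = x * g * x⁻¹ := fun g => rfl
  have hτ : ∀ g, τ (τ g) = g := by
    intro g
    apply Subtype.ext
    rw [hτc, hτc]
    have h2 : x * (x * (g : G) * x⁻¹) * x⁻¹ = (x * x) * g * (x * x)⁻¹ := by group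
    rw [h2, hxx, one_mul, inv_one, mul_one]
  have hfact : Fact (Nat.Prime 3) := ⟨Nat.prime_three⟩
  have key := (FixBN.fix_of_hasSplit (p := 3) (by norm_num) (hasSplit_three h) τ hτ
    (X := (centralizerPPrimeCore 2 x).subgroupOf L) (fun y hy => by
      apply Subtype.ext
      rw [hτc, hdx y (mem_subgroupOf.1 hy), mul_inv_cancel_right])
    (fun g hg y hy => by
      rw [mem_subgroupOf] at hy ⊢
      have h2 : x * (g : G) * x⁻¹ = g := by rw [← hτc, hg]
      exact hcore g (mul_inv_eq_iff_eq_mul.1 h2) y hy)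
    (hodd.of_dvd_nat (Subgroup.card_comap_dvd_of_injective _ _ (subtype_injective L)))).1
  apply key
  have h4 : orderOf (⟨⟨t, htL⟩, ht⟩ : (centralizerPPrimeCore 2 x).subgroupOf L) = 3 :=
    orderOf_eq_prime (Subtype.ext (Subtype.ext h3)) (fun h5 => h1 (congrArg
      (fun y : (centralizerPPrimeCore 2 x).subgroupOf L => ((y : L) : G)) h5))
  rw [← h4]
  exact orderOf_dvd_natCard _

end Triple

/-- The exclusion of the alternating components of the centralizers of automorphisms of order two of the groups of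
Lie type of characteristic at least five. -/
def NoAlt : Prop :=
  ∀ (p : ℕ) [Fact p.Prime], 5 ≤ p → ∀ (L : Type u) [Group L] [Finite L] [IsSimpleGroup L], IsLieTypeChar p L →
    ∀ τ : L ≃* L, (∀ g, τ (τ g) = g) → ∀ m : ℕ, 9 ≤ m → ∀ J : Subgroup ↥(FixBN.Reduce.fixSub τ), IsPComponent 2 J →
      Nonempty (↥J ⧸ oddCore ↥J ≃* alternatingGroup (Fin m)) → False

/-- Transport to the automorphism induced by `a` on `L`. -/
theorem no_lie (hN : NoAlt.{u}) {G : Type u} [Group G] [Finite G] {L : Subgroup G} [L.Normal]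
    (hs : IsSimpleGroup L) {p : ℕ} [Fact p.Prime] (hp : 5 ≤ p) (h : IsLieTypeChar p L) {a : G}
    (ha : orderOf a = 2) {J : Subgroup ↥(centralizer ({a} : Set G))} (hJ : IsComponent J)
    (hJL : J.map (centralizer ({a} : Set G)).subtype ≤ L) {k : ℕ} (hk : 9 ≤ k)
    (e : J ≃* alternatingGroup (Fin k)) : False := by
  have haa : a * a = 1 := by rw [← sq, ← ha, pow_orderOf_eq_one]
  let τ : L ≃* L := MulAut.conjNormal a
  have hτc : ∀ g : L, ((τ g : L) : G) = a * g * a⁻¹ := fun g => rfl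
  have hτ : ∀ g, τ (τ g) = g := by
    intro g
    apply Subtype.ext
    rw [hτc, hτc]
    have h2 : a * (a * (g : G) * a⁻¹) * a⁻¹ = (a * a) * g * (a * a)⁻¹ := by group
    rw [h2, haa, one_mul, inv_one, mul_one]
  have hmem : ∀ y : ↥(FixBN.Reduce.fixSub τ), ((y : L) : G) ∈ centralizer ({a} : Set G) := by
    intro y
    have h1 : a * ((y : L) : G) * a⁻¹ = ((y : L) : G) := by rw [← hτc, FixBN.Reduce.mem_fixSub.1 y.2]
    rw [mem_centralizer_singleton_iff]
    exact (mul_inv_eq_iff_eq_mul.1 h1).symm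
  let φ : ↥(FixBN.Reduce.fixSub τ) →* ↥(centralizer ({a} : Set G)) :=
    { toFun := fun y => ⟨((y : L) : G), hmem y⟩
      map_one' := rfl
      map_mul' := fun _ _ => rfl }
  have hφ : Function.Injective φ := fun y z hyz =>
    Subtype.ext (Subtype.ext (congrArg (fun w : ↥(centralizer ({a} : Set G)) => (w : G)) hyz))
  have hr : ∀ j ∈ J, ∃ y, φ y = j := by
    intro j hj
    have h1 : (j : G) ∈ L := hJL (mem_map_of_mem _ hj)
    have h2 : (⟨(j : G), h1⟩ : L) ∈ FixBN.Reduce.fixSub τ := by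
      rw [FixBN.Reduce.mem_fixSub]
      apply Subtype.ext
      rw [hτc]
      change a * (j : G) * a⁻¹ = j
      rw [← mem_centralizer_singleton_iff.1 j.2, mul_inv_cancel_right]
    exact ⟨⟨⟨(j : G), h1⟩, h2⟩, rfl⟩
  let f : ↥(J.comap φ) →* ↥J :=
    { toFun := fun y => (⟨φ y, y.2⟩ : J)
      map_one' := Subtype.ext (map_one φ)
      map_mul' := fun _ _ => Subtype.ext (map_mul φ _ _) }
  let e1 : ↥(J.comap φ) ≃* ↥J := MulEquiv.ofBijective f
    ⟨fun y z hyz => Subtype.ext (hφ (congrArg (fun w : J => (w : ↥(centralizer ({a} : Set G)))) hyz)), fun j => by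
      obtain ⟨y, hy⟩ := hr j j.2
      exact ⟨⟨y, by rw [mem_comap, hy]; exact j.2⟩, Subtype.ext hy⟩⟩
  have hq : IsQuasisimple ↥(J.comap φ) :=
    (SignalizersComponents.Components.isQuasisimple_congr e1).2 hJ.2
  have hcard : Nat.card ↥(J.comap φ) = Nat.card (alternatingGroup (Fin k)) := Nat.card_congr (e1.trans e).toEquiv
  have hc2 := two_mul_card_alt (k := k) (by omega)
  have h4 : 4 ∣ Nat.factorial k := (Nat.dvd_factorial (by norm_num) (by omega)).trans dvd_rfl
  have h2 : 2 ∣ Nat.card ↥(J.comap φ) := by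
    rw [hcard]
    omega
  have hcomp : IsComponent (J.comap φ) := ⟨hJ.1.comap φ, hq⟩
  have hp2 : Fact (Nat.Prime 2) := ⟨Nat.prime_two⟩
  have hpc := SignalizersComponents.EvenComponent.isPComponent_of_isComponent (p := 2) hcomp h2
  have hsimp : IsSimpleGroup ↥(J.comap φ) := by
    have h5 : IsSimpleGroup (alternatingGroup (Fin k)) :=
      alternatingGroup.isSimpleGroup (by rw [Nat.card_fin]; omega)
    exact (e1.trans e).isSimpleGroup
  have hO := H284.StdRed.oddCore_le_center hq (even_iff_two_dvd.2 h2)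
  have hZ : center ↥(J.comap φ) = ⊥ := by
    rcases (inferInstance : (center ↥(J.comap φ)).Normal).eq_bot_or_eq_top with h5 | h5
    · exact h5
    · exact absurd h5 (Lib.ComponentSolvable.quasisimple_center_ne_top hq)
  have hO' : oddCore ↥(J.comap φ) = ⊥ := by rw [eq_bot_iff, ← hZ]; exact hO
  exact hN p hp L h τ hτ k hk (J.comap φ) hpc
    ⟨((QuotientGroup.quotientMulEquivOfEq hO').trans QuotientGroup.quotientBot).trans (e1.trans e)⟩

theorem lt_of_card_lt {k m : ℕ} (hk : 2 ≤ k) (hm : 2 ≤ m)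
    (h : Nat.card (alternatingGroup (Fin k)) < Nat.card (alternatingGroup (Fin m))) : k < m := by
  by_contra hcon
  have h1 := two_mul_card_alt hk
  have h2 := two_mul_card_alt hm
  have h3 : Nat.factorial m ≤ Nat.factorial k := Nat.factorial_le (by omega)
  omega

/-- **The reduction of S3123 to `NoAlt`.** -/
theorem main (hN : NoAlt.{u}) {G : Type u} [Group G] [Finite G]
    (hF : IsSimpleGroup ↥(generalizedFittingSubgroup G)) (hF' : ¬ IsMulCommutative ↥(generalizedFittingSubgroup G))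
    (a x : G) (ha : orderOf a = 2) (hx : orderOf x = 2)
    (hodd : ∀ D : Subgroup ↥(centralizer ({a} : Set G)), Odd (Nat.card D) → Group.IsSolvable D)
    (hB : pLayer 2 ↥(centralizer ({a} : Set G)) = layer ↥(centralizer ({a} : Set G)))
    (hsch : (∃ p : ℕ, p.Prime ∧ p ≠ 2 ∧ IsLieTypeChar p ↥(generalizedFittingSubgroup G)) ∨
      (∃ n : ℕ, Odd n ∧ 7 ≤ n ∧ Nonempty (↥(generalizedFittingSubgroup G) ≃* ↥(alternatingGroup (Fin n)))) ∨
      (∃ (F : Type) (_ : Field F) (_ : Fintype F), Fintype.card F = 4 ∧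
        Nonempty (↥(generalizedFittingSubgroup G) ≃* Matrix.ProjectiveSpecialLinearGroup (Fin 3) F)) ∨
      Spor.IsoHe ↥(generalizedFittingSubgroup G) → Schreier.Basic.Sch ↥(generalizedFittingSubgroup G))
    (hcases : centralizerPPrimeCore 2 x ≠ ⊥ →
      (∃ p : ℕ, p.Prime ∧ p ≠ 2 ∧ IsLieTypeChar p ↥(generalizedFittingSubgroup G)) ∨
      (∃ n : ℕ, Odd n ∧ 7 ≤ n ∧ Nonempty (↥(generalizedFittingSubgroup G) ≃* ↥(alternatingGroup (Fin n)))) ∨
      (∃ (F : Type) (_ : Field F) (_ : Fintype F), Fintype.card F = 4 ∧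
        Nonempty (↥(generalizedFittingSubgroup G) ≃* Matrix.ProjectiveSpecialLinearGroup (Fin 3) F)) ∨
      Spor.IsoHe ↥(generalizedFittingSubgroup G))
    (J : Subgroup ↥(centralizer ({a} : Set G))) (hJ : IsPComponent 2 J)
    (hJx : ∀ l ∈ J.map (centralizer ({a} : Set G)).subtype, x * l * x⁻¹ ∈ J.map (centralizer ({a} : Set G)).subtype)
    (hJu : J.map (centralizer ({a} : Set G)).subtype =
      (oddCore ↥J).map ((centralizer ({a} : Set G)).subtype.comp J.subtype) ⊔
        ⁅J.map (centralizer ({a} : Set G)).subtype, centralizerPPrimeCore 2 x ⊓ centralizer ({a} : Set G)⁆)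
    (n : ℕ) (hn : 4 ≤ n) (hJA : Nonempty ((↥J ⧸ oddCore ↥J) ≃* ↥(alternatingGroup (Fin (2 * n + 1))))) :
    ∃ m : ℕ, n < m ∧ Nonempty (↥(generalizedFittingSubgroup G) ≃* ↥(alternatingGroup (Fin (2 * m + 1)))) := by
  obtain ⟨e0⟩ := hJA
  have hJc := isComponent hodd hB hJ
  obtain ⟨hO, ⟨e⟩⟩ := exists_equiv_alt hJc.2 (k := 2 * n + 1) (by omega) e0
  have hcent := Cit.PieceEnd.centralizer_fstar hF hF'
  have hnorm : (generalizedFittingSubgroup G).Normal := Lib.GenFitting.genFitting_normal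
  set L := generalizedFittingSubgroup G with hL
  set J0 := J.map (centralizer ({a} : Set G)).subtype with hJ0
  have e1 : J0 ≃* alternatingGroup (Fin (2 * n + 1)) :=
    (Subgroup.equivMapOfInjective J _ (subtype_injective _)).symm.trans e
  rw [hO, Subgroup.map_bot, bot_sup_eq] at hJu
  have hJa : J0 ≤ centralizer ({a} : Set G) := by
    rintro _ ⟨j, _, rfl⟩
    exact j.2
  have hJ1 : J0 ≠ ⊥ := by
    intro h1
    have h2 : Nat.card J0 = 1 := by rw [h1]; exact Subgroup.card_bot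
    rw [Nat.card_congr e1.toEquiv] at h2
    have h3 := two_mul_card_alt (k := 2 * n + 1) (by omega)
    have h4 : Nat.factorial 9 ≤ Nat.factorial (2 * n + 1) := Nat.factorial_le (by omega)
    have h5 : Nat.factorial 9 = 362880 := rfl
    omega
  have hcore : centralizerPPrimeCore 2 x ≠ ⊥ := by
    intro h1
    rw [h1, bot_inf_eq, commutator_bot_right] at hJu
    exact hJ1 hJu
  have hperf : ⁅J0, J0⁆ = J0 := by
    have h1 : ⁅J, J⁆ = J := ClassificationK.PCompTransport.isPComponent_perfect 2 hJ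
    rw [hJ0, ← map_commutator, h1]
  have hJL : J0 ≤ L := le_of_sch hcent (hsch (hcases hcore)) hperf
  have hne : J0 ≠ L := by
    intro h1
    have h2 : a ∈ centralizer (L : Set G) := by
      rw [mem_centralizer_iff]
      intro y hy
      rw [← h1] at hy
      exact mem_centralizer_singleton_iff.1 (hJa hy)
    rw [hcent, mem_bot] at h2
    rw [h2, orderOf_one] at ha
    omega
  have hlt : Nat.card J0 < Nat.card L := by
    refine lt_of_le_of_ne (Nat.le_of_dvd Nat.card_pos (Subgroup.card_dvd_of_le hJL)) ?_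
    intro h1
    exact hne (Subgroup.eq_of_le_of_card_ge hJL h1.ge)
  have hdvd : Nat.card J0 ∣ Nat.card L := Subgroup.card_dvd_of_le hJL
  have hc0 := two_mul_card_alt (k := 2 * n + 1) (by omega)
  rw [← Nat.card_congr e1.toEquiv] at hc0
  have h9 : Nat.factorial 9 ∣ Nat.factorial (2 * n + 1) := Nat.factorial_dvd_factorial (by omega)
  have h9' : Nat.factorial 9 = 362880 := rfl
  rw [h9'] at h9
  rcases hcases hcore with ⟨p, hp, hp2, h⟩ | ⟨m', hm', hm7, ⟨eL⟩⟩ | ⟨F, _, _, hF4, ⟨eL⟩⟩ | hHe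
  · exfalso
    have hpf : Fact p.Prime := ⟨hp⟩
    obtain ⟨t, htJ, htO, ht1, ht3⟩ := three_mem hx hJa hJx hJu (k := 2 * n + 1) (by omega) e1
    have hp3 : p ≠ 3 := by
      rintro rfl
      exact not_three hF h hx (hJL htJ) htO ht1 ht3
    have hp5 : 5 ≤ p := by
      have h2 := hp.two_le
      have h4 : p ≠ 4 := by rintro rfl; exact absurd hp (by norm_num)
      omega
    exact no_lie hN hF hp5 h ha hJc hJL (k := 2 * n + 1) (by omega) e
  · obtain ⟨m, rfl⟩ := hm'
    refine ⟨m, ?_, ⟨eL⟩⟩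
    rw [Nat.card_congr e1.toEquiv, Nat.card_congr eL.toEquiv] at hlt
    have h1 := lt_of_card_lt (by omega) (by omega) hlt
    omega
  · exfalso
    have h1 := CTwoTab.card_L34 hF4 eL
    rw [h1] at hlt
    have h2 : 362880 ≤ Nat.factorial (2 * n + 1) := Nat.le_of_dvd (Nat.factorial_pos _) h9
    omega
  · exfalso
    obtain ⟨eL⟩ := hHe
    have h1 : Nat.card L = 4030387200 := by rw [Nat.card_congr eL.toEquiv, FixBN.HeStab.card_he]
    rw [h1] at hdvd
    rw [← hc0] at h9
    have h2 : 181440 ∣ Nat.card J0 := by omega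
    have h3 := h2.trans hdvd
    norm_num at h3

end Cfsg.Agent.H290.UnbRed
end
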